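import Groth.Prelude.Def_SGA1t
import Mathlib.Algebra.MvPolynomial.Equiv
import Mathlib.AlgebraicGeometry.AffineSpace

/-!
# The affine line over `Spec R` and its coordinate

`isRelSNC`: the coordinate of `Spec R[X]` defines a strict normal crossings divisor relative to `Spec R`.
-/

set_option autoImplicit false

universe u

open CategoryTheory CategoryTheory.Limits AlgebraicGeometry Polynomial

namespace K153.RelLine

variable (R : Type u) [CommRing R]

/-- The polynomial ring in the variables `ULift (Fin 1)` is the polynomial ring. -/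
noncomputable def mvEquiv : MvPolynomial (ULift.{u} (Fin 1)) R ≃ₐ[R] R[X] :=
  MvPolynomial.uniqueAlgEquiv R (ULift.{u} (Fin 1))

theorem mvEquiv_X (i : ULift.{u} (Fin 1)) : mvEquiv R (MvPolynomial.X i) = X := by
  exact MvPolynomial.eval₂_X _ _ _

theorem mvEquiv_C (r : R) : mvEquiv R (MvPolynomial.C r) = C r := (mvEquiv R).commutes r

/-- The projection of the affine line. -/
noncomputable abbrev pr : Spec (CommRingCat.of R[X]) ⟶ Spec (CommRingCat.of R) :=
  Spec.map (CommRingCat.ofHom (Polynomial.C (R := R)))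

/-- The coordinate. -/
noncomputable abbrev crd : Γ(Spec (CommRingCat.of R[X]), ⊤) :=
  (Scheme.ΓSpecIso (CommRingCat.of R[X])).inv.hom X

theorem homOfVector_eq : AffineSpace.homOfVector (pr R) (fun _ : ULift.{u} (Fin 1) => crd R) =
    Spec.map (CommRingCat.ofHom (mvEquiv R : MvPolynomial (ULift.{u} (Fin 1)) R →+* R[X])) ≫
      (AffineSpace.SpecIso (ULift.{u} (Fin 1)) (CommRingCat.of R)).inv := by
  apply AffineSpace.hom_ext
  · rw [AffineSpace.homOfVector_over, Category.assoc, AffineSpace.SpecIso_inv_over, ← Spec.map_comp]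
    refine congrArg Spec.map (CommRingCat.hom_ext (RingHom.ext fun r => ?_))
    exact (mvEquiv_C R r).symm
  · intro i
    rw [AffineSpace.homOfVector_appTop_coord, Scheme.Hom.comp_appTop, CommRingCat.comp_apply,
      AffineSpace.SpecIso_inv_appTop_coord]
    have h := Scheme.ΓSpecIso_inv_naturality
      (CommRingCat.ofHom (mvEquiv R : MvPolynomial (ULift.{u} (Fin 1)) R →+* R[X]))
    have h1 := RingHom.congr_fun (congrArg CommRingCat.Hom.hom h) (MvPolynomial.X i)
    refine Eq.trans ?_ h1
    change crd R = (Scheme.ΓSpecIso (CommRingCat.of R[X])).inv.hom (mvEquiv R (MvPolynomial.X i))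
    rw [mvEquiv_X]

instance isIso_homOfVector :
    IsIso (AffineSpace.homOfVector (pr R) (fun _ : ULift.{u} (Fin 1) => crd R)) := by
  rw [homOfVector_eq]
  have : IsIso (CommRingCat.ofHom (mvEquiv R : MvPolynomial (ULift.{u} (Fin 1)) R →+* R[X])) :=
    (mvEquiv R).toRingEquiv.toCommRingCatIso.isIso_hom
  infer_instance

theorem ι_appTop_eq {Y : Scheme.{u}} (U : Y.Opens) (a : Γ(Y, ⊤)) :
    U.ι.appTop.hom a =
      U.topIso.inv.hom ((Y.presheaf.map (homOfLE (le_top (a := U))).op).hom a) := by
  have : U.ι.appTop = Y.presheaf.map (homOfLE (le_top (a := U))).op ≫ U.topIso.inv := by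
    rw [Scheme.Hom.appTop, Scheme.Opens.ι_app]
    simp only [Scheme.Opens.topIso_inv]
    erw [← Y.presheaf.map_comp]
    rfl
  exact congrArg (fun z => z.hom a) this

/-- The zero section of the affine line is a strict relative normal crossings divisor. -/
theorem isRelSNC : SGA1t.IsRelSNC (pr R) (fun _ : Fin 1 => crd R) := by
  intro x _
  refine ⟨⊤, trivial, 1, (⊤ : (Spec (CommRingCat.of R[X])).Opens).ι.appTop ∘ fun _ => crd R, fun _ => 0, ?_, ?_, ?_⟩
  · intro a b _
    exact Subtype.ext (Subsingleton.elim _ _)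
  · rw [← AffineSpace.comp_homOfVector]
    infer_instance
  · intro i
    exact ι_appTop_eq ⊤ (crd R)

end K153.RelLine
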