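import Mathlib.AlgebraicGeometry.Limits
import Mathlib.AlgebraicGeometry.OpenImmersion

/-!
# Points of a coproduct of copies of a scheme, with values in a connected scheme
-/

set_option autoImplicit false
universe u

open CategoryTheory CategoryTheory.Limits AlgebraicGeometry

namespace K153.CopSec

variable {J : Type u} (T : Scheme.{u}) {T' : Scheme.{u}}

/-- The fold map. -/
noncomputable abbrev fold (J : Type u) : (∐ fun _ : J => T) ⟶ T :=
  Sigma.desc fun _ : J => 𝟙 T

theorem bijective [ConnectedSpace T'] (ξ : T' ⟶ T) :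
    Function.Bijective (fun i : J => (⟨ξ ≫ Sigma.ι (fun _ : J => T) i, by
      rw [Category.assoc, Sigma.ι_desc, Category.comp_id]⟩ :
        {y : T' ⟶ ∐ fun _ : J => T // y ≫ fold T J = ξ})) := by
  constructor
  · intro i j h
    obtain ⟨p⟩ := (inferInstance : Nonempty T')
    have h1 : ξ ≫ Sigma.ι (fun _ : J => T) i = ξ ≫ Sigma.ι (fun _ : J => T) j :=
      congrArg Subtype.val h
    have h2 : (sigmaMk (fun _ : J => T)) ⟨i, ξ p⟩ = (sigmaMk (fun _ : J => T)) ⟨j, ξ p⟩ := by
      rw [sigmaMk_mk, sigmaMk_mk, ← Scheme.Hom.comp_apply, ← Scheme.Hom.comp_apply, h1]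
    exact congrArg Sigma.fst ((sigmaMk (fun _ : J => T)).injective h2)
  · rintro ⟨y, hy⟩
    obtain ⟨p⟩ := (inferInstance : Nonempty T')
    let q : T' → J := fun t => ((sigmaMk (fun _ : J => T)).symm (y t)).1
    have hq : ∀ s t, q s = q t := by
      let _ : TopologicalSpace J := ⊥
      have : DiscreteTopology J := ⟨rfl⟩
      have hcont : Continuous q := by
        have h1 : Continuous (Sigma.fst : (Σ _ : J, T) → J) := continuous_sigma fun _ => continuous_const
        exact h1.comp ((sigmaMk (fun _ : J => T)).symm.continuous.comp y.continuous)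
      intro s t
      exact PreconnectedSpace.constant inferInstance hcont
    let i := q p
    have hr : Set.range y ⊆ Set.range (Sigma.ι (fun _ : J => T) i) := by
      rintro _ ⟨t, rfl⟩
      have h1 : (sigmaMk (fun _ : J => T)) ((sigmaMk (fun _ : J => T)).symm (y t)) = y t :=
        (sigmaMk (fun _ : J => T)).apply_symm_apply _
      have h2 : q t = i := hq t p
      obtain ⟨⟨j, z⟩, hz⟩ : ∃ w, w = (sigmaMk (fun _ : J => T)).symm (y t) := ⟨_, rfl⟩
      have h3 : j = i := by rw [← h2]; exact congrArg Sigma.fst hz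
      subst h3
      rw [← hz, sigmaMk_mk] at h1
      exact ⟨z, h1⟩
    let l := IsOpenImmersion.lift (Sigma.ι (fun _ : J => T) i) y hr
    have hl : l ≫ Sigma.ι (fun _ : J => T) i = y := IsOpenImmersion.lift_fac _ _ _
    refine ⟨i, Subtype.ext ?_⟩
    change ξ ≫ Sigma.ι (fun _ : J => T) i = y
    have h4 : l = ξ := by
      rw [← hy, ← hl, Category.assoc, Sigma.ι_desc, Category.comp_id]
    rw [← h4, hl]

theorem card_eq [ConnectedSpace T'] (ξ : T' ⟶ T) :
    Nat.card {y : T' ⟶ ∐ fun _ : J => T // y ≫ fold T J = ξ} = Nat.card J :=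
  (Nat.card_congr (Equiv.ofBijective _ (bijective (J := J) T ξ))).symm

/-- Change of index type. -/
theorem exists_ulift (n : ℕ) {Y : Scheme.{u}} (p : Y ⟶ T) (e : Y ≅ ∐ fun _ : Fin n => T)
    (he : e.hom ≫ Sigma.desc (fun _ : Fin n => 𝟙 T) = p) :
    ∃ e' : Y ≅ ∐ fun _ : ULift.{u} (Fin n) => T, e'.hom ≫ fold T (ULift.{u} (Fin n)) = p := by
  let w : (∐ fun _ : Fin n => T) ≅ ∐ fun _ : ULift.{u} (Fin n) => T :=
    Sigma.whiskerEquiv Equiv.ulift.symm fun _ => Iso.refl T
  refine ⟨e ≪≫ w, ?_⟩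
  have h : w.hom ≫ fold T (ULift.{u} (Fin n)) = Sigma.desc (fun _ : Fin n => 𝟙 T) := by
    apply Sigma.hom_ext
    intro j
    simp [w, Sigma.whiskerEquiv]
  rw [Iso.trans_hom, Category.assoc, h, he]

end K153.CopSec
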