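import Groth.Agent.NonAbH1.K153.GalDom
import Groth.Agent.Pi1.K153.EssImg
import Groth.Agent.S0295
import Groth.Agent.S0285
import Groth.Agent.Lefpen.H416.Spl
import Groth.Prelude.Def_Pi1

/-!
# Finite étale schemes whose points extend to sections over a connected cover

`Dm σ X` (`σ : T ⟶ S`, `X` over `S`): every geometric point of `X ×_S T` lies on an `S`-morphism `T ⟶ X`.

* `Dm.pullback`, `Dm.comp`, `Dm.prod`, `Dm.of_isSplit`: permanence.
* `ff`: base change along `f : S' ⟶ S` is fully faithful on finite étale `X` with `Dm P.hom X`, for a fixed finite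
  étale `P ⟶ S` with `P ×_S S'` connected.
* `exists_obj`: essential surjectivity.
-/

set_option autoImplicit false
universe u

open CategoryTheory CategoryTheory.Limits AlgebraicGeometry

namespace K153.DomSch

/-- Every geometric point of `X ×_S T` lies on an `S`-morphism `T ⟶ X`. -/
def Dm {T S : Scheme.{u}} (σ : T ⟶ S) (X : Over S) : Prop :=
  ∀ (Ω : Type u) [Field Ω] [IsAlgClosed Ω] (τ : Spec (CommRingCat.of Ω) ⟶ T)
    (x : Spec (CommRingCat.of Ω) ⟶ X.left), x ≫ X.hom = τ ≫ σ →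
    ∃ s : T ⟶ X.left, s ≫ X.hom = σ ∧ τ ≫ s = x

theorem Dm.comp {T' T S : Scheme.{u}} {σ : T ⟶ S} {X : Over S} (h : Dm σ X) (g : T' ⟶ T) :
    Dm (g ≫ σ) X := by
  intro Ω _ _ τ x hx
  obtain ⟨s, hs, hs'⟩ := h Ω (τ ≫ g) x (by rw [hx, Category.assoc])
  exact ⟨g ≫ s, by rw [Category.assoc, hs], by rw [← hs', Category.assoc]⟩

theorem Dm.iso {T S : Scheme.{u}} {σ : T ⟶ S} {X Y : Over S} (h : Dm σ X) (e : X ≅ Y) : Dm σ Y := by
  intro Ω _ _ τ x hx
  obtain ⟨s, hs, hs'⟩ := h Ω τ (x ≫ e.inv.left) (by rw [Category.assoc, Over.w, hx])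
  refine ⟨s ≫ e.hom.left, by rw [Category.assoc, Over.w, hs], ?_⟩
  rw [← Category.assoc, hs', Category.assoc, ← Over.comp_left, e.inv_hom_id, Over.id_left,
    Category.comp_id]

/-- Base change along a commutative square. -/
theorem Dm.pullback {T S T' S' : Scheme.{u}} {σ : T ⟶ S} {X : Over S} (h : Dm σ X) (f : S' ⟶ S)
    (σ' : T' ⟶ S') (g : T' ⟶ T) (w : g ≫ σ = σ' ≫ f) : Dm σ' ((Over.pullback f).obj X) := by
  intro Ω _ _ τ x hx
  change Spec (CommRingCat.of Ω) ⟶ Limits.pullback X.hom f at x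
  change x ≫ pullback.snd X.hom f = τ ≫ σ' at hx
  obtain ⟨s, hs, hs'⟩ := h Ω (τ ≫ g) (x ≫ pullback.fst X.hom f) (by
    rw [Category.assoc, pullback.condition, reassoc_of% hx, Category.assoc, w])
  refine ⟨pullback.lift (g ≫ s) σ' (by rw [Category.assoc, hs, w]), pullback.lift_snd _ _ _, ?_⟩
  apply pullback.hom_ext
  · rw [Category.assoc, pullback.lift_fst, ← hs', Category.assoc]
  · rw [Category.assoc, pullback.lift_snd, hx]

theorem Dm.prod {T S : Scheme.{u}} {σ : T ⟶ S} {X Y Z : Over S} (hX : Dm σ X) (hY : Dm σ Y)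
    (a : Z ⟶ X) (b : Z ⟶ Y) (h : IsPullback a.left b.left X.hom Y.hom) : Dm σ Z := by
  intro Ω _ _ τ z hz
  obtain ⟨s, hs, hs'⟩ := hX Ω τ (z ≫ a.left) (by rw [Category.assoc, Over.w, hz])
  obtain ⟨t, ht, ht'⟩ := hY Ω τ (z ≫ b.left) (by rw [Category.assoc, Over.w, hz])
  refine ⟨h.lift s t (by rw [hs, ht]), ?_, ?_⟩
  · rw [← Over.w a, h.lift_fst_assoc, hs]
  · apply h.hom_ext
    · rw [Category.assoc, h.lift_fst, hs']
    · rw [Category.assoc, h.lift_snd, ht']

theorem Dm.refl {T S : Scheme.{u}} (σ : T ⟶ S) : Dm σ (Over.mk (𝟙 S)) := by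
  intro Ω _ _ τ x hx
  exact ⟨σ, Category.comp_id _, by rw [← hx]; exact Category.comp_id _⟩

/-- A family of sections covering the pullback. -/
theorem Dm.of_family {T S : Scheme.{u}} {σ : T ⟶ S} {X : Over S} {ι : Type u}
    (e : Limits.pullback X.hom σ ≅ ∐ fun _ : ι => T)
    (he : ∀ i : ι, Sigma.ι (fun _ : ι => T) i ≫ e.inv ≫ pullback.snd X.hom σ = 𝟙 T) : Dm σ X := by
  intro Ω _ _ τ x hx
  let z : Spec (CommRingCat.of Ω) ⟶ Limits.pullback X.hom σ := pullback.lift x τ hx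
  obtain ⟨⟨i, y⟩, hy⟩ := (sigmaMk (fun _ : ι => T)).surjective ((z ≫ e.hom) default)
  rw [sigmaMk_mk] at hy
  have hr : Set.range (z ≫ e.hom) ⊆ Set.range (Sigma.ι (fun _ : ι => T) i) := by
    rintro _ ⟨w, rfl⟩
    rw [Subsingleton.elim w default]
    exact ⟨y, hy⟩
  let l : Spec (CommRingCat.of Ω) ⟶ T :=
    IsOpenImmersion.lift (Sigma.ι (fun _ : ι => T) i) (z ≫ e.hom) hr
  have hl : l ≫ Sigma.ι (fun _ : ι => T) i = z ≫ e.hom := IsOpenImmersion.lift_fac _ _ _
  have h1 : z = l ≫ Sigma.ι (fun _ : ι => T) i ≫ e.inv := by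
    rw [← Category.assoc, hl, Category.assoc, e.hom_inv_id, Category.comp_id]
  have h2 : τ = l := by
    have h3 : z ≫ pullback.snd X.hom σ = τ := pullback.lift_snd _ _ _
    rw [← h3, h1, Category.assoc, Category.assoc, he i, Category.comp_id]
  refine ⟨(Sigma.ι (fun _ : ι => T) i ≫ e.inv) ≫ pullback.fst X.hom σ, ?_, ?_⟩
  · rw [Category.assoc, pullback.condition, Category.assoc, reassoc_of% (he i)]
  · rw [h2, ← Category.assoc, ← h1]
    exact pullback.lift_fst _ _ _

theorem Dm.of_isSplit {T S : Scheme.{u}} {σ : T ⟶ S} {X : Over S} (hX : FEt.prop X.hom)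
    (h : Pi1.IsSplit ((FEt.restrict σ).obj (MorphismProperty.Over.mk ⊤ X.hom hX))) : Dm σ X := by
  obtain ⟨ι, _, e, he⟩ := h
  exact Dm.of_family e he

theorem Dm.isSplit_of_point {T S : Scheme.{u}} (σ : T ⟶ S) (X : Over S) (hX : FEt.prop X.hom)
    [ConnectedSpace T] {Ω : Type u} [Field Ω] [IsAlgClosed Ω] (α : Spec (CommRingCat.of Ω) ⟶ T)
    (d : ∀ x : Spec (CommRingCat.of Ω) ⟶ X.left, x ≫ X.hom = α ≫ σ →
      ∃ s : T ⟶ X.left, s ≫ X.hom = σ ∧ α ≫ s = x) :
    Pi1.IsSplit ((FEt.restrict σ).obj (MorphismProperty.Over.mk ⊤ X.hom hX)) := by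
  apply Groth.Agent.Lefpen.H416.Spl.spl _ α
  intro e he
  change Spec (CommRingCat.of Ω) ⟶ Limits.pullback X.hom σ at e
  change e ≫ pullback.snd X.hom σ = α at he
  obtain ⟨s, hs, hs'⟩ := d (e ≫ pullback.fst X.hom σ) (by
    rw [Category.assoc, pullback.condition, reassoc_of% he])
  let t : T ⟶ Limits.pullback X.hom σ := pullback.lift s (𝟙 T) (by rw [hs, Category.id_comp])
  have ht : α ≫ t = e := by
    apply pullback.hom_ext
    · rw [Category.assoc, pullback.lift_fst, hs']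
    · rw [Category.assoc, pullback.lift_snd, Category.comp_id, he]
  exact ⟨t, pullback.lift_snd _ _ _, ht⟩

theorem Dm.of_point {T S : Scheme.{u}} (σ : T ⟶ S) (X : Over S) (hX : FEt.prop X.hom)
    [ConnectedSpace T] {Ω : Type u} [Field Ω] [IsAlgClosed Ω] (α : Spec (CommRingCat.of Ω) ⟶ T)
    (d : ∀ x : Spec (CommRingCat.of Ω) ⟶ X.left, x ≫ X.hom = α ≫ σ →
      ∃ s : T ⟶ X.left, s ≫ X.hom = σ ∧ α ≫ s = x) : Dm σ X :=
  Dm.of_isSplit hX (Dm.isSplit_of_point σ X hX α d)

section galois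

open PreGaloisCategory

variable {S S' : Scheme.{u}} (f : S' ⟶ S)

/-- The object of `FEt.Cat S` of a finite étale `S`-scheme. -/
abbrev toFEt (X : Over S) (hX : FEt.prop X.hom) : FEt.Cat S := MorphismProperty.Over.mk ⊤ X.hom hX

theorem dom_fiber {Ω : Type u} [Field Ω] [IsAlgClosed Ω] (ξ : Spec (CommRingCat.of Ω) ⟶ S)
    (P X : Over S) (hP : FEt.prop P.hom) (hX : FEt.prop X.hom) (d : Dm P.hom X)
    (a : FEt.fiberObj ξ (toFEt P hP)) (x : FEt.fiberObj ξ (toFEt X hX)) :
    ∃ s : toFEt P hP ⟶ toFEt X hX, (FEt.fiber ξ).map s a = x := by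
  obtain ⟨s, hs, hs'⟩ := d Ω a.1 x.1 (x.2.trans a.2.symm)
  exact ⟨MorphismProperty.Over.homMk s hs, Subtype.ext hs'⟩

/-- Fibre functors at compatible geometric points. -/
theorem exists_fiberFunctors [ConnectedSpace S] [ConnectedSpace S'] :
    ∃ (_ : GaloisCategory (FEt.Cat S)) (_ : GaloisCategory (FEt.Cat S'))
      (Ω : Type u) (_ : Field Ω) (_ : IsAlgClosed Ω) (ξ' : Spec (CommRingCat.of Ω) ⟶ S')
      (F' : FEt.Cat S' ⥤ FintypeCat.{u}) (_ : FiberFunctor F')
      (_ : FiberFunctor (FEt.restrict f ⋙ F')), Nonempty (F' ⋙ FintypeCat.incl ≅ FEt.fiber ξ') := by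
  obtain ⟨x⟩ := (inferInstance : Nonempty S')
  let ξ' : Spec (CommRingCat.of (AlgebraicClosure (S'.residueField x))) ⟶ S' :=
    Spec.map (CommRingCat.ofHom (algebraMap (S'.residueField x)
      (AlgebraicClosure (S'.residueField x)))) ≫ S'.fromSpecResidueField x
  obtain ⟨h1, F', hF, he⟩ := Groth.Agent.S0295.result (X := S') ξ'
  obtain ⟨h3, h4⟩ := K153.EssImg.galoisCategory S
  obtain ⟨h5, h6⟩ := Groth.Agent.S0285.result f
  have h7 : GaloisCategory (FEt.Cat S') := ⟨⟨F', ⟨hF⟩⟩⟩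
  exact ⟨h4, h7, _, inferInstance, inferInstance, ξ', F', hF,
    Groth.Agent.Pi1A.GaloisExact.fiberFunctor_comp (FEt.restrict f) F', he⟩

variable (P : Over S) (hP : FEt.prop P.hom)

/-- The fibre functor of `S` obtained from `S'`, on `Dm` objects. -/
theorem dom_of_dm {Ω : Type u} [Field Ω] [IsAlgClosed Ω] (ξ' : Spec (CommRingCat.of Ω) ⟶ S')
    (F' : FEt.Cat S' ⥤ FintypeCat.{u}) (e : F' ⋙ FintypeCat.incl ≅ FEt.fiber ξ')
    (X : Over S) (hX : FEt.prop X.hom) (d : Dm P.hom X) :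
    K153.GalDom.Dom (FEt.restrict f ⋙ F') (toFEt P hP) (toFEt X hX) := by
  intro a x
  let a' : FEt.fiberObj ξ' ((FEt.restrict f).obj (toFEt P hP)) := e.hom.app _ a
  let x' : FEt.fiberObj ξ' ((FEt.restrict f).obj (toFEt X hX)) := e.hom.app _ x
  obtain ⟨α, hα⟩ : ∃ α : Spec (CommRingCat.of Ω) ⟶ Limits.pullback P.hom f, α = a'.1 := ⟨_, rfl⟩
  obtain ⟨χ, hχ⟩ : ∃ χ : Spec (CommRingCat.of Ω) ⟶ Limits.pullback X.hom f, χ = x'.1 := ⟨_, rfl⟩
  have hα2 : α ≫ pullback.snd P.hom f = ξ' := by rw [hα]; exact a'.2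
  have hχ2 : χ ≫ pullback.snd X.hom f = ξ' := by rw [hχ]; exact x'.2
  obtain ⟨s, hs, hs'⟩ := d Ω (α ≫ pullback.fst P.hom f) (χ ≫ pullback.fst X.hom f) (by
    rw [Category.assoc, Category.assoc, pullback.condition, pullback.condition, reassoc_of% hα2,
      reassoc_of% hχ2])
  let s' : toFEt P hP ⟶ toFEt X hX := MorphismProperty.Over.homMk s hs
  refine ⟨s', ?_⟩
  have h1 : (FEt.fiber ξ').map ((FEt.restrict f).map s') a' = x' := by
    apply Subtype.ext
    change a'.1 ≫ ((FEt.restrict f).map s').left = x'.1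
    rw [← hα, ← hχ]
    let m : Limits.pullback P.hom f ⟶ Limits.pullback X.hom f :=
      pullback.lift (pullback.fst P.hom f ≫ s) (pullback.snd P.hom f)
        (by rw [Category.assoc, hs, pullback.condition])
    change α ≫ m = χ
    apply pullback.hom_ext
    · rw [Category.assoc, pullback.lift_fst, ← Category.assoc, hs']
    · rw [Category.assoc, pullback.lift_snd, hα2, hχ2]
  have h3 := NatTrans.naturality_apply e.hom ((FEt.restrict f).map s') a
  have h4 : e.hom.app _ (F'.map ((FEt.restrict f).map s') a) = e.hom.app _ x := h3.trans h1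
  have h5 : Function.Injective (e.hom.app ((FEt.restrict f).obj (toFEt X hX))) := by
    have : IsIso (e.hom.app ((FEt.restrict f).obj (toFEt X hX))) := inferInstance
    exact ((isIso_iff_bijective _).1 this).1
  exact h5 h4

omit f in
/-- The fibre functor at a geometric point, on `Dm` objects. -/
theorem dom_of_dm' {Ω : Type u} [Field Ω] [IsAlgClosed Ω] (ξ : Spec (CommRingCat.of Ω) ⟶ S)
    (F : FEt.Cat S ⥤ FintypeCat.{u}) (e : F ⋙ FintypeCat.incl ≅ FEt.fiber ξ)
    (X : Over S) (hX : FEt.prop X.hom) (d : Dm P.hom X) :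
    K153.GalDom.Dom F (toFEt P hP) (toFEt X hX) := by
  intro a x
  let a' : FEt.fiberObj ξ (toFEt P hP) := e.hom.app _ a
  let x' : FEt.fiberObj ξ (toFEt X hX) := e.hom.app _ x
  obtain ⟨s, hs, hs'⟩ := d Ω a'.1 x'.1 (x'.2.trans a'.2.symm)
  let s' : toFEt P hP ⟶ toFEt X hX := MorphismProperty.Over.homMk s hs
  refine ⟨s', ?_⟩
  have h1 : (FEt.fiber ξ).map s' a' = x' := Subtype.ext hs'
  have h3 := NatTrans.naturality_apply e.hom s' a
  have h4 : e.hom.app _ (F.map s' a) = e.hom.app _ x := h3.trans h1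
  have h5 : Function.Injective (e.hom.app (toFEt X hX)) := by
    have : IsIso (e.hom.app (toFEt X hX)) := inferInstance
    exact ((isIso_iff_bijective _).1 this).1
  exact h5 h4

include hP in
theorem ff [ConnectedSpace S] [ConnectedSpace S'] [ConnectedSpace ↥(Limits.pullback P.hom f)]
    {X Y : Over S} (hX : FEt.prop X.hom) (hY : FEt.prop Y.hom) (dX : Dm P.hom X)
    (dY : Dm P.hom Y) : Function.Bijective (fun g : X ⟶ Y => (Over.pullback f).map g) := by
  obtain ⟨g1, g2, Ω, _, _, ξ', F', hF, hF2, ⟨e⟩⟩ := exists_fiberFunctors f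
  have : PreGaloisCategory.IsConnected ((FEt.restrict f).obj (toFEt P hP)) :=
    (Groth.Agent.Pi1.H397.Conn.isConnected_iff _).mpr
      (inferInstanceAs (ConnectedSpace ↥(Limits.pullback P.hom f)))
  have h := K153.GalDom.map_bijective (FEt.restrict f) F' (toFEt P hP)
    (dom_of_dm f P hP ξ' F' e X hX dX) (dom_of_dm f P hP ξ' F' e Y hY dY)
  constructor
  · intro g g' hgg
    have h1 : (MorphismProperty.Over.homMk g.left (Over.w g) : toFEt X hX ⟶ toFEt Y hY) =
        MorphismProperty.Over.homMk g'.left (Over.w g') := by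
      apply h.1
      apply MorphismProperty.Over.Hom.ext
      exact congrArg CommaMorphism.left hgg
    ext1
    exact congrArg (fun t => t.left) h1
  · intro g'
    obtain ⟨g, hg⟩ := h.2 (MorphismProperty.Over.homMk g'.left (Over.w g'))
    refine ⟨Over.homMk g.left (Over.w g.hom), ?_⟩
    ext1
    exact congrArg (fun t => t.left) hg

include hP in
theorem exists_obj [ConnectedSpace S] [ConnectedSpace S'] [ConnectedSpace P.left]
    [ConnectedSpace ↥(Limits.pullback P.hom f)] (dP : Dm P.hom P) (Z : Over S')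
    (hZ : FEt.prop Z.hom) (dZ : Dm (pullback.snd P.hom f) Z) :
    ∃ X : Over S, FEt.prop X.hom ∧ Dm P.hom X ∧ Nonempty ((Over.pullback f).obj X ≅ Z) := by
  obtain ⟨g1, g2, Ω, _, _, ξ', F', hF, hF2, ⟨e⟩⟩ := exists_fiberFunctors f
  have h1 : PreGaloisCategory.IsConnected ((FEt.restrict f).obj (toFEt P hP)) :=
    (Groth.Agent.Pi1.H397.Conn.isConnected_iff _).mpr
      (inferInstanceAs (ConnectedSpace ↥(Limits.pullback P.hom f)))
  have h2 : PreGaloisCategory.IsConnected (toFEt P hP) :=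
    (Groth.Agent.Pi1.H397.Conn.isConnected_iff _).mpr (inferInstanceAs (ConnectedSpace P.left))
  have hP' : FEt.prop ((Over.pullback f).obj P).hom := ((FEt.restrict f).obj (toFEt P hP)).prop
  have h3 : K153.GalDom.Dom F' ((FEt.restrict f).obj (toFEt P hP)) (toFEt Z hZ) :=
    dom_of_dm' ((Over.pullback f).obj P) hP' ξ' F' e Z hZ dZ
  obtain ⟨X, ⟨i⟩, hX⟩ := K153.GalDom.exists_obj (FEt.restrict f) F' (toFEt P hP)
    (dom_of_dm f P hP ξ' F' e P hP dP) (toFEt Z hZ) h3
  refine ⟨Over.mk X.hom, X.prop, ?_, ⟨?_⟩⟩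
  · obtain ⟨a⟩ : Nonempty (F'.obj ((FEt.restrict f).obj (toFEt P hP))) := inferInstance
    let a' : FEt.fiberObj ξ' ((FEt.restrict f).obj (toFEt P hP)) := e.hom.app _ a
    obtain ⟨α, hα⟩ : ∃ α : Spec (CommRingCat.of Ω) ⟶ Limits.pullback P.hom f, α = a'.1 :=
      ⟨_, rfl⟩
    have hα2 : α ≫ pullback.snd P.hom f = ξ' := by rw [hα]; exact a'.2
    apply Dm.of_point P.hom (Over.mk X.hom) X.prop (α ≫ pullback.fst P.hom f)
    intro x hx
    change Spec (CommRingCat.of Ω) ⟶ X.left at x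
    change x ≫ X.hom = (α ≫ pullback.fst P.hom f) ≫ P.hom at hx
    let χ : Spec (CommRingCat.of Ω) ⟶ Limits.pullback X.hom f := pullback.lift x ξ' (by
      rw [hx, Category.assoc, pullback.condition, reassoc_of% hα2])
    let x' : FEt.fiberObj ξ' ((FEt.restrict f).obj X) := ⟨χ, pullback.lift_snd _ _ _⟩
    obtain ⟨y, hy⟩ : ∃ y : F'.obj ((FEt.restrict f).obj X), e.hom.app _ y = x' := by
      have : IsIso (e.hom.app ((FEt.restrict f).obj X)) := inferInstance
      exact ((isIso_iff_bijective _).1 this).2 x'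
    obtain ⟨s, hs⟩ := hX a y
    refine ⟨s.left, Over.w s.hom, ?_⟩
    have h4 : (FEt.fiber ξ').map ((FEt.restrict f).map s) a' = x' := by
      have h5 := NatTrans.naturality_apply e.hom ((FEt.restrict f).map s) a
      have h6 : F'.map ((FEt.restrict f).map s) a = y := hs
      rw [← hy, ← h6]
      exact h5.symm
    have h7 : a'.1 ≫ ((FEt.restrict f).map s).left = χ := congrArg Subtype.val h4
    rw [← hα] at h7
    have hsw : s.left ≫ X.hom = P.hom := Over.w s.hom
    have key : ∀ (t : P.left ⟶ X.left) (ht : t ≫ X.hom = P.hom),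
        α ≫ (pullback.lift (pullback.fst P.hom f ≫ t) (pullback.snd P.hom f)
          (by rw [Category.assoc, ht, pullback.condition]) :
          Limits.pullback P.hom f ⟶ Limits.pullback X.hom f) = χ →
        (α ≫ pullback.fst P.hom f) ≫ t = x := by
      intro t ht h8
      have h9 : χ ≫ pullback.fst X.hom f = x := pullback.lift_fst _ _ _
      rw [← h9, ← h8, Category.assoc, Category.assoc, pullback.lift_fst]
    exact key s.left hsw h7
  · exact (MorphismProperty.Over.forget FEt.prop ⊤ S').mapIso i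

end galois

end K153.DomSch
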