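import Groth.Agent.Pi1C.GalWhisker

/-!
# Objects dominated by a Galois object whose image is connected

`H : C ⥤ C'` an exact functor of Galois categories, `F'` a fibre functor of `C'`, `F = H ⋙ F'`, `P` an object of
`C` with `H P` connected. `Dom F P X`: every point of `F X` is the image of every point of `F P` under a
morphism `P ⟶ X`.

* `exists_map`: `H` is full on objects dominated by `P`.
* `exists_obj`: if `P` dominates itself and `H P` dominates `Z`, then `Z ≅ H X` with `X` dominated by `P`.
-/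

set_option autoImplicit false
universe u v w

open CategoryTheory PreGaloisCategory
open Groth.Agent.Pi1C.GalWhisker

namespace K153.GalDom

/-- Every point of `F X` is the image of every point of `F P` under a morphism `P ⟶ X`. -/
def Dom {C : Type u} [Category.{v} C] (F : C ⥤ FintypeCat.{w}) (P X : C) : Prop :=
  ∀ (a : F.obj P) (x : F.obj X), ∃ s : P ⟶ X, F.map s a = x

variable {C : Type u} {C' : Type u} [Category.{v} C] [Category.{v} C']
  (H : C ⥤ C') (F' : C' ⥤ FintypeCat.{w})
  [GaloisCategory C] [GaloisCategory C'] [FiberFunctor F'] [FiberFunctor (H ⋙ F')]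
  (P : C) [PreGaloisCategory.IsConnected (H.obj P)]

omit [GaloisCategory C] [FiberFunctor (H ⋙ F')] in
include P in
/-- Any `σ ∈ Aut F` agrees at a given point of `F P` with some `τ ∈ Aut F'`. -/
lemma exists_agree (σ : Aut (H ⋙ F')) (a : (H ⋙ F').obj P) :
    ∃ τ : Aut F', Pi1X.autWhisker H F' τ • a = σ • a := by
  obtain ⟨τ, hτ⟩ := MulAction.exists_smul_eq (Aut F') (show F'.obj (H.obj P) from a)
    (show F'.obj (H.obj P) from σ • a)
  exact ⟨τ, hτ⟩

theorem exists_map {X Y : C} (hX : Dom (H ⋙ F') P X) (hY : Dom (H ⋙ F') P Y)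
    (g' : H.obj X ⟶ H.obj Y) : ∃ g : X ⟶ Y, H.map g = g' := by
  obtain ⟨a⟩ : Nonempty (F'.obj (H.obj P)) := inferInstance
  obtain ⟨g, hg⟩ := exists_map_of_equivariant (H ⋙ F') (X := X) (Y := Y)
    (fun x => F'.map g' x) (by
      intro σ x
      obtain ⟨τ, hτ⟩ := exists_agree H F' P σ a
      have key : ∀ (Z : C) (_ : Dom (H ⋙ F') P Z) (z : (H ⋙ F').obj Z),
          σ • z = Pi1X.autWhisker H F' τ • z := by
        intro Z hZ z
        obtain ⟨s, rfl⟩ := hZ a z
        rw [← map_smul', ← map_smul', hτ]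
      rw [key X hX x, key Y hY]
      exact map_smul' F' g' τ x)
  refine ⟨g, F'.map_injective ?_⟩
  ext x
  exact hg x

include P in
theorem map_bijective {X Y : C} (hX : Dom (H ⋙ F') P X) (hY : Dom (H ⋙ F') P Y) :
    Function.Bijective (fun g : X ⟶ Y => H.map g) := by
  refine ⟨fun g h e => ?_, fun g' => exists_map H F' P hX hY g'⟩
  apply (H ⋙ F').map_injective
  exact congrArg F'.map e

theorem exists_obj [PreGaloisCategory.IsConnected P] (hP : Dom (H ⋙ F') P P) (Z : C')
    (hZ : Dom F' (H.obj P) Z) :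
    ∃ X : C, Nonempty (H.obj X ≅ Z) ∧ Dom (H ⋙ F') P X := by
  classical
  obtain ⟨a⟩ : Nonempty (F'.obj (H.obj P)) := inferInstance
  choose h hh using fun σ : Aut (H ⋙ F') => exists_agree H F' P σ a
  -- elements agreeing at a point of `F P` agree on `F' Z`
  have key : ∀ (b : F'.obj (H.obj P)) (τ τ' : Aut F'), τ • b = τ' • b →
      ∀ z : F'.obj Z, τ • z = τ' • z := by
    intro b τ τ' e z
    obtain ⟨s, rfl⟩ := hZ b z
    rw [← map_smul', ← map_smul', e]
  have hall : ∀ (σ : Aut (H ⋙ F')) (b : (H ⋙ F').obj P), Pi1X.autWhisker H F' (h σ) • b = σ • b := by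
    intro σ b
    obtain ⟨s, rfl⟩ := hP a b
    rw [← map_smul', ← map_smul', hh σ]
  let act : MulAction (Aut (H ⋙ F')) (F'.obj Z) :=
    { smul := fun σ z => h σ • z
      one_smul := fun z => by
        change h 1 • z = z
        have := key a (h 1) 1 ((hh 1).trans (by rw [one_smul, one_smul])) z
        rw [this, one_smul]
      mul_smul := fun σ τ z => by
        change h (σ * τ) • z = h σ • (h τ • z)
        rw [← mul_smul]
        refine key a _ _ ?_ z
        change Pi1X.autWhisker H F' (h (σ * τ)) • (show (H ⋙ F').obj P from a) =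
          Pi1X.autWhisker H F' (h σ * h τ) • (show (H ⋙ F').obj P from a)
        rw [hh, mul_smul, map_mul, mul_smul, hh τ, hall σ] }
  have hstab : ∀ z : F'.obj Z,
      IsOpen (@MulAction.stabilizer (Aut (H ⋙ F')) _ _ act z : Set (Aut (H ⋙ F'))) := by
    intro z
    refine Subgroup.isOpen_mono (H₁ := MulAction.stabilizer (Aut (H ⋙ F'))
      (show (H ⋙ F').obj P from a)) ?_ (stabilizer_isOpen _ _)
    intro σ hσ
    rw [MulAction.mem_stabilizer_iff] at hσ
    change h σ • z = z
    have := key a (h σ) 1 (by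
      rw [one_smul]
      exact (hh σ).trans hσ) z
    rw [this, one_smul]
  obtain ⟨X, e, he⟩ := @exists_obj_of_action C _ _ (H ⋙ F') _ (F'.obj Z) inferInstance act hstab
  have he' : ∀ (σ : Aut (H ⋙ F')) (x : (H ⋙ F').obj X), e (σ • x) = h σ • e x := he
  refine ⟨X, ?_, ?_⟩
  · obtain ⟨g, -⟩ := exists_iso_of_equivariant F' (X := H.obj X) (Y := Z) e (by
      intro τ x
      have h1 := he' (Pi1X.autWhisker H F' τ) x
      refine h1.trans ?_
      exact key a _ _ (hh (Pi1X.autWhisker H F' τ)) (e x))
    exact ⟨g⟩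
  · intro b x
    refine exists_map_of_stabilizer_le (H ⋙ F') b x ?_
    intro σ hσ
    apply e.injective
    rw [he']
    have := key b (h σ) 1 (by
      rw [one_smul]
      exact (hall σ b).trans hσ) (e x)
    rw [this, one_smul]

end K153.GalDom
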