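import Groth.Agent.NonAbH1.K153.Laur
import Groth.Agent.NonAbH1.K153.DomSch
import Groth.Agent.S15749
import Groth.Agent.SchFin.K868.Conn
import Groth.Agent.Pi1.H394.Mu
import Mathlib.RingTheory.Henselian
import Mathlib.AlgebraicGeometry.Pullbacks

/-!
# The covers `t ↦ t ^ N` of `Spec R((t))`

* `connectedSpace`: `Spec R((t))` is connected for `R` local.
* `PW R hN`: the cover `t ↦ t ^ N` as a scheme over `Spec R((t))`; `PW_prop`: finite étale for `N` invertible.
* `dm_self`: for `R` strictly henselian, the geometric points of `PW ×PW` lie on sections.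
* `rho_comp_pw`, `rho_tt`, `isPullback`: compatibility with the residue map `R((t)) → k((t))`.
-/

set_option autoImplicit false

universe u

open CategoryTheory CategoryTheory.Limits AlgebraicGeometry HahnSeries

namespace K153.LaurSch

open K153.Laur K153.DomSch

variable (R : Type u) [CommRing R]

/-- `Spec R((t))`. -/
noncomputable abbrev SL : Scheme.{u} := Spec (CommRingCat.of (LaurentSeries R))

instance connectedSpace [IsLocalRing R] : ConnectedSpace ↥(SL R) := by
  change ConnectedSpace (PrimeSpectrum (LaurentSeries R))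
  rw [K868.SchFin.connectedSpace_primeSpectrum_iff]
  refine ⟨?_, fun e he => ?_⟩
  · exact (HahnSeries.C_injective (Γ := ℤ) (R := R)).nontrivial
  · obtain ⟨r, ⟨hr, rfl⟩, -⟩ := Groth.Agent.S15749.result R e he
    have h1 := (K868.SchFin.connectedSpace_primeSpectrum_iff R).1
      (by
        have : ConnectedSpace (PrimeSpectrum R) := by
          have h2 : Nonempty (PrimeSpectrum R) := inferInstance
          have h3 : PreconnectedSpace (PrimeSpectrum R) := by
            refine ⟨?_⟩
            rw [isPreconnected_closed_iff]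
            intro s t hs ht hst ⟨x, hx1, hx⟩ ⟨y, hy1, hy⟩
            have hcl : ∀ (z : PrimeSpectrum R) (w : Set (PrimeSpectrum R)), IsClosed w → z ∈ w →
                IsLocalRing.closedPoint R ∈ w := fun z w hw hz =>
              (IsLocalRing.specializes_closedPoint z).mem_closed hw hz
            exact ⟨IsLocalRing.closedPoint R, trivial, hcl x s hs hx, hcl y t ht hy⟩
          exact { toPreconnectedSpace := h3, toNonempty := h2 }
        exact this)
    rcases h1.2 r hr with rfl | rfl
    · left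
      exact map_zero _
    · right
      exact map_one _

/-- The scheme map `t ↦ t ^ N`. -/
noncomputable abbrev spw {N : ℕ} (hN : 0 < N) : SL R ⟶ SL R := Spec.map (CommRingCat.ofHom (pw R hN))

/-- The cover `t ↦ t ^ N` of `Spec R((t))`. -/
noncomputable abbrev PW {N : ℕ} (hN : 0 < N) : Over (SL R) := Over.mk (spw R hN)

theorem spw_comp {N M : ℕ} (hN : 0 < N) (hM : 0 < M) :
    spw R hM ≫ spw R hN = spw R (Nat.mul_pos hM hN) := by
  rw [spw, spw, spw, ← Spec.map_comp, ← CommRingCat.ofHom_comp, pw_comp]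

theorem PW_prop {N : ℕ} (hN : 0 < N) (hu : IsUnit (N : R)) : FEt.prop (PW R hN).hom := by
  refine ⟨(IsFinite.SpecMap_iff _).2 (finite_pw hN), ?_⟩
  exact (HasRingHomProperty.Spec_iff (P := @Etale)).2 (etale_pw hN hu)

/-- Geometric points with the same image under `t ↦ t ^ N` differ by a root of unity. -/
theorem dm_self [HenselianLocalRing R] [IsSepClosed (IsLocalRing.ResidueField R)] {N : ℕ}
    (hN : 0 < N) (hu : IsUnit (N : R)) : Dm (spw R hN) (PW R hN) := by
  intro Ω _ _ τ x hx
  obtain ⟨a, rfl⟩ := Spec.map_surjective τ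
  obtain ⟨b, rfl⟩ := Spec.map_surjective (R := CommRingCat.of (LaurentSeries R)) x
  have h0 : Spec.map (CommRingCat.ofHom (pw R hN) ≫ b) =
      Spec.map (CommRingCat.ofHom (pw R hN) ≫ a) := by
    rw [Spec.map_comp, Spec.map_comp]
    exact hx
  have h1 : b.hom.comp (pw R hN) = a.hom.comp (pw R hN) :=
    congrArg CommRingCat.Hom.hom (Spec.map_injective h0)
  have ha0 : a.hom (tt R) ≠ 0 := (isUnit_tt.map a.hom).ne_zero
  have h2 : b.hom (tt R) ^ N = a.hom (tt R) ^ N := by
    rw [← map_pow, ← map_pow, ← pw_tt hN]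
    exact RingHom.congr_fun h1 (tt R)
  obtain ⟨ζ, hζ, hζ'⟩ := Groth.Agent.Pi1.H394.Mu.exists_root (a.hom.comp (HahnSeries.C (Γ := ℤ)))
    N hu (b.hom (tt R) / a.hom (tt R)) (by
      rw [div_pow, h2, div_self (pow_ne_zero _ ha0)])
  have h3 : (HahnSeries.C ζ * tt R) ^ N = pw R hN (tt R) := by
    rw [mul_pow, ← map_pow, hζ, map_one, one_mul, pw_tt]
  refine ⟨Spec.map (CommRingCat.ofHom (Laur.lift hN (pw R hN) (HahnSeries.C ζ * tt R) h3)), ?_, ?_⟩
  · change Spec.map _ ≫ Spec.map _ = Spec.map _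
    rw [← Spec.map_comp, ← CommRingCat.ofHom_comp, lift_comp_pw]
  · change Spec.map _ ≫ Spec.map _ = Spec.map _
    rw [← Spec.map_comp]
    congr 1
    refine CommRingCat.hom_ext (hom_ext hN ?_ ?_)
    · change (a.hom.comp (Laur.lift hN (pw R hN) (HahnSeries.C ζ * tt R) h3)).comp (pw R hN) = _
      rw [RingHom.comp_assoc, lift_comp_pw]
      exact h1.symm
    · change a.hom (Laur.lift hN (pw R hN) (HahnSeries.C ζ * tt R) h3 (tt R)) = b.hom (tt R)
      rw [lift_tt, map_mul]
      have h4 : a.hom (HahnSeries.C ζ) = b.hom (tt R) / a.hom (tt R) := hζ'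
      rw [h4, div_mul_cancel₀ _ ha0]

section rho

variable {R} [IsLocalRing R]
variable (ρ : LaurentSeries R →+* LaurentSeries (IsLocalRing.ResidueField R))
  (hρ : ρ.comp (HahnSeries.ofPowerSeries ℤ R) =
    (HahnSeries.ofPowerSeries ℤ (IsLocalRing.ResidueField R)).comp
      (PowerSeries.map (IsLocalRing.residue R)))
include hρ

theorem rho_tt : ρ (tt R) = tt (IsLocalRing.ResidueField R) := by
  have h1 : ∀ (S : Type u) [CommRing S], tt S = HahnSeries.ofPowerSeries ℤ S PowerSeries.X := by
    intro S _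
    rw [HahnSeries.ofPowerSeries_X]
    rfl
  rw [h1, h1]
  have h2 := RingHom.congr_fun hρ PowerSeries.X
  rw [RingHom.comp_apply, RingHom.comp_apply, PowerSeries.map_X] at h2
  exact h2

theorem rho_coeff (f : LaurentSeries R) (n : ℤ) :
    (ρ f).coeff n = IsLocalRing.residue R (f.coeff n) := by
  obtain ⟨N, g, rfl⟩ := K88.LaurentBasic.exists_eq_single_mul f
  have h1 : ρ (single (-(N : ℤ)) (1 : R)) = single (-(N : ℤ)) (1 : IsLocalRing.ResidueField R) := by
    have h2 : ∀ (S : Type u) [CommRing S],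
        single (-(N : ℤ)) (1 : S) * tt S ^ N = 1 := by
      intro S _
      rw [tt_pow, single_mul_single, neg_add_cancel, one_mul]
      rfl
    have h3 : ρ (single (-(N : ℤ)) (1 : R)) * tt (IsLocalRing.ResidueField R) ^ N = 1 := by
      rw [← rho_tt ρ hρ, ← map_pow, ← map_mul, h2, map_one]
    have h4 : IsUnit (tt (IsLocalRing.ResidueField R) ^ N) := isUnit_tt.pow N
    exact h4.mul_left_injective (h3.trans (h2 _).symm)
  rw [map_mul, h1, coeff_single_mul, coeff_single_mul, one_mul, one_mul]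
  have h5 := RingHom.congr_fun hρ g
  rw [RingHom.comp_apply, RingHom.comp_apply] at h5
  rw [h5]
  rcases lt_or_ge (n - -(N : ℤ)) 0 with hn | hn
  · rw [K88.LaurentBasic.coeff_ofPowerSeries_neg _ _ hn,
      K88.LaurentBasic.coeff_ofPowerSeries_neg _ _ hn, map_zero]
  · obtain ⟨m, hm⟩ := Int.eq_ofNat_of_zero_le hn
    rw [hm, ofPowerSeries_apply_coeff, ofPowerSeries_apply_coeff, PowerSeries.coeff_map]

theorem rho_comp_pw {N : ℕ} (hN : 0 < N) :
    ρ.comp (pw R hN) = (pw (IsLocalRing.ResidueField R) hN).comp ρ := by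
  ext f m
  rw [RingHom.comp_apply, RingHom.comp_apply, rho_coeff ρ hρ]
  by_cases h : (N : ℤ) ∣ m
  · obtain ⟨a, rfl⟩ := h
    rw [pw_coeff_mul, pw_coeff_mul, rho_coeff ρ hρ]
  · rw [pw_coeff_of_not_dvd _ _ _ h, pw_coeff_of_not_dvd _ _ _ h, map_zero]

theorem rho_C (r : R) : ρ (HahnSeries.C r) = HahnSeries.C (IsLocalRing.residue R r) := by
  have h1 : ∀ (S : Type u) [CommRing S] (s : S),
      HahnSeries.C s = HahnSeries.ofPowerSeries ℤ S (PowerSeries.C s) := by
    intro S _ s
    rw [HahnSeries.ofPowerSeries_C]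
  rw [h1, h1]
  have h2 := RingHom.congr_fun hρ (PowerSeries.C r)
  rw [RingHom.comp_apply, RingHom.comp_apply, PowerSeries.map_C] at h2
  exact h2

/-- The base change of the cover `t ↦ t ^ N` along the residue map. -/
theorem isPullback {N : ℕ} (hN : 0 < N) :
    IsPullback (Spec.map (CommRingCat.ofHom ρ)) (spw (IsLocalRing.ResidueField R) hN)
      (spw R hN) (Spec.map (CommRingCat.ofHom ρ)) :=
  isPullback_SpecMap_of_isPushout _ _ _ _
    (isPushout_pw hN ρ (rho_comp_pw ρ hρ hN) (rho_tt ρ hρ))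

end rho

end K153.LaurSch
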