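import Groth.Agent.NonAbH1.K153.TameSplit
import Groth.Agent.NonAbH1.K153.LaurSch
import Groth.Agent.Pi1.H416.PrincDesc
import Groth.Agent.Pi1.K153.PurePair
import Groth.Agent.Pi1C.PurityQuot
import Groth.Agent.S2051

/-!
# Prime-to-`p` principal covers of `Spec R((t))` are split by `t ↦ t ^ N`

`R` strictly henselian local, `C` a finite group of order invertible in `R`, `P → Spec R((t))` a principal
`C`-cover: `P` is split by `t ↦ t ^ N` for some `N` invertible in `R` (`exists_dm`). The comparison of finite étale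
covers of `R{t}[1/t]` and of `R((t))` is a hypothesis (`Cmp`).
-/

set_option autoImplicit false

universe u

open CategoryTheory CategoryTheory.Limits AlgebraicGeometry Polynomial IsLocalRing

namespace K153.HensLaur

open K153.HensLoc K153.RelLine K153.TameSplit K153.Laur K153.LaurSch K153.DomSch
  Groth.Agent.Pi1.H415 Groth.Agent.Pi1.H415.Glue
  Groth.Agent.Pi1.H415.KumBC Groth.Agent.Pi1.H415.Local Groth.Agent.Pi1.H415.SplitBC
  Groth.Agent.Pi1.H390

/-- Finite étale covers of `R{t}[1/t]` and `R((t))`. -/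
def Cmp : Prop := ∀ (R : Type u) [CommRing R] (B : Type u) [CommRing B] [Algebra R[X] B]
  (_ : Hens2.IsPairHenselization R[X] (Ideal.span {(X : R[X])}) B) (ψ : B →ₐ[R[X]] PowerSeries R)
  (χ : Localization.Away (algebraMap R[X] B X) →+* LaurentSeries R)
  (_ : χ.comp (algebraMap B (Localization.Away (algebraMap R[X] B X))) =
    (HahnSeries.ofPowerSeries ℤ R).comp ψ.toRingHom),
  (FEt.restrict (Spec.map (CommRingCat.ofHom χ))).IsEquivalence

variable {R : Type u} [CommRing R] (B : Type u) [CommRing B] [Algebra R[X] B]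
  (ψ : B →ₐ[R[X]] PowerSeries R)

/-- The map `R{t} → R((t))`. -/
noncomputable abbrev hL : B →+* LaurentSeries R := (HahnSeries.ofPowerSeries ℤ R).comp ψ.toRingHom

theorem hL_X : hL B ψ (algebraMap R[X] B X) = tt R := by
  have h1 : ψ (algebraMap R[X] B X) = (PowerSeries.X : PowerSeries R) := by
    rw [AlgHom.commutes]
    exact Polynomial.coe_X
  change HahnSeries.ofPowerSeries ℤ R (ψ (algebraMap R[X] B X)) = _
  rw [h1, HahnSeries.ofPowerSeries_X]
  rfl

/-- The map from the localization. -/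
noncomputable def chi : Localization.Away (algebraMap R[X] B X) →+* LaurentSeries R :=
  IsLocalization.Away.lift (algebraMap R[X] B X) (g := hL B ψ) (by rw [hL_X]; exact isUnit_tt)

theorem chi_comp : (chi B ψ).comp (algebraMap B (Localization.Away (algebraMap R[X] B X))) =
    hL B ψ := IsLocalization.Away.lift_comp _ _

variable [IsLocalRing B]

theorem range_subset {Z : Scheme.{u}} (g : Z ⟶ SL R) :
    Set.range (g ≫ Spec.map (CommRingCat.ofHom (hL B ψ))) ⊆ Set.range (UU (R := R) B).ι := by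
  rintro _ ⟨z, rfl⟩
  rw [Scheme.Opens.range_ι]
  change _ ∈ UU (R := R) B
  rw [mem_UU_iff]
  intro hz
  rw [Scheme.Hom.comp_apply] at hz
  have h1 : hL B ψ (algebraMap R[X] B X) ∈ (g z).asIdeal := hz
  rw [hL_X] at h1
  exact (g z).isPrime.ne_top (Ideal.eq_top_of_isUnit_mem _ h1 isUnit_tt)

/-- The map `Spec R((t)) → Spec R{t}[1/t]`. -/
noncomputable def kap : SL R ⟶ (UU (R := R) B : Scheme.{u}) :=
  IsOpenImmersion.lift (UU (R := R) B).ι (𝟙 _ ≫ Spec.map (CommRingCat.ofHom (hL B ψ)))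
    (range_subset B ψ (𝟙 _))

theorem kap_ι : kap B ψ ≫ (UU (R := R) B).ι = Spec.map (CommRingCat.ofHom (hL B ψ)) := by
  rw [kap, IsOpenImmersion.lift_fac, Category.id_comp]

theorem kum_eq {N : ℕ} (hN : 0 < N) (i : SGA1t.vanishingAt (fam R) (pt (R := R) B)) :
    tt R ^ N = ((pw R hN).comp (hL B ψ)) (eqs (fam R) (pt (R := R) B) B i) := by
  change tt R ^ N = pw R hN (hL B ψ (fn (pt (R := R) B) B (crd R)))
  rw [fn_crd, hL_X, pw_tt]

/-- The map from the Kummer algebra of `R{t}` to `R((t))`, given by `t ↦ t ^ N`. -/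
noncomputable def kumL {N : ℕ} (hN : 0 < N) :
    SGA1t.kummer B (eqs (fam R) (pt (R := R) B) B) (fun _ => N) →+* LaurentSeries R :=
  letI : Algebra B (LaurentSeries R) := ((pw R hN).comp (hL B ψ)).toAlgebra
  (KumBasic.lift (eqs (fam R) (pt (R := R) B) B) (fun _ => N) (fun _ => tt R)
    (kum_eq B ψ hN)).toRingHom

theorem kumL_comp {N : ℕ} (hN : 0 < N) :
    (kumL B ψ hN).comp (algebraMap B _) = (pw R hN).comp (hL B ψ) := by
  refine RingHom.ext fun b => ?_
  let _ : Algebra B (LaurentSeries R) := ((pw R hN).comp (hL B ψ)).toAlgebra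
  exact (KumBasic.lift (eqs (fam R) (pt (R := R) B) B) (fun _ => N) (fun _ => tt R)
    (kum_eq B ψ hN)).commutes b

theorem exists_lift {N : ℕ} (hN : 0 < N) :
    ∃ g : SL R ⟶ ((str B (eqs (fam R) (pt (R := R) B) B) (fun _ => N) ⁻¹ᵁ UU (R := R) B :
        (Spec (CommRingCat.of (SGA1t.kummer B (eqs (fam R) (pt (R := R) B) B) (fun _ => N)))).Opens) :
          Scheme.{u}),
      g ≫ (str B (eqs (fam R) (pt (R := R) B) B) (fun _ => N) ∣_ UU (R := R) B) =
        spw R hN ≫ kap B ψ := by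
  let V := str B (eqs (fam R) (pt (R := R) B) B) (fun _ => N) ⁻¹ᵁ UU (R := R) B
  let q : SL R ⟶ Spec (CommRingCat.of (SGA1t.kummer B (eqs (fam R) (pt (R := R) B) B) (fun _ => N))) :=
    Spec.map (CommRingCat.ofHom (kumL B ψ hN))
  have hq : q ≫ str B (eqs (fam R) (pt (R := R) B) B) (fun _ => N) =
      spw R hN ≫ Spec.map (CommRingCat.ofHom (hL B ψ)) := by
    rw [str, spw, ← Spec.map_comp, ← Spec.map_comp, ← CommRingCat.ofHom_comp,
      ← CommRingCat.ofHom_comp, kumL_comp]
  have hr : Set.range q ⊆ Set.range V.ι := by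
    rintro _ ⟨z, rfl⟩
    rw [Scheme.Opens.range_ι]
    change str B (eqs (fam R) (pt (R := R) B) B) (fun _ => N) (q z) ∈ UU (R := R) B
    rw [← Scheme.Hom.comp_apply, hq]
    have := range_subset B ψ (spw R hN) ⟨z, rfl⟩
    rwa [Scheme.Opens.range_ι] at this
  refine ⟨IsOpenImmersion.lift V.ι q hr, ?_⟩
  rw [← cancel_mono (UU (R := R) B).ι, Category.assoc, Category.assoc, kap_ι,
    morphismRestrict_ι, IsOpenImmersion.lift_fac_assoc, hq]

theorem isEquivalence_kap (hC : Cmp.{u})
    (hB : Hens2.IsPairHenselization R[X] (Ideal.span {(X : R[X])}) B) :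
    (FEt.restrict (kap B ψ)).IsEquivalence := by
  have h1 : (FEt.restrict (Spec.map (CommRingCat.ofHom (chi B ψ)))).IsEquivalence :=
    hC R B hB ψ (chi B ψ) (chi_comp B ψ)
  let j : Spec (CommRingCat.of (Localization.Away (algebraMap R[X] B X))) ⟶ Spec (CommRingCat.of B) :=
    Spec.map (CommRingCat.ofHom (algebraMap B (Localization.Away (algebraMap R[X] B X))))
  have hj : Set.range j = Set.range (UU (R := R) B).ι := by
    rw [Scheme.Opens.range_ι]
    have h2 : Set.range j = ((PrimeSpectrum.basicOpen (algebraMap R[X] B X) :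
        TopologicalSpace.Opens (PrimeSpectrum B)) : Set (PrimeSpectrum B)) :=
      PrimeSpectrum.localization_away_comap_range (Localization.Away (algebraMap R[X] B X))
        (algebraMap R[X] B X)
    rw [h2]
    ext y
    exact (mem_UU_iff B y).symm
  let θ := IsOpenImmersion.isoOfRangeEq j (UU (R := R) B).ι hj
  have h3 : kap B ψ = Spec.map (CommRingCat.ofHom (chi B ψ)) ≫ θ.hom := by
    rw [← cancel_mono (UU (R := R) B).ι, kap_ι, Category.assoc, IsOpenImmersion.isoOfRangeEq_hom_fac,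
      ← Spec.map_comp, ← CommRingCat.ofHom_comp, chi_comp]
  rw [h3]
  have h4 : (FEt.restrict θ.hom).IsEquivalence :=
    Groth.Agent.Pi1C.PurityQuot.restrict_isEquivalence θ.hom
  exact K153.PurePair.isEquivalence_of_comp _ _

omit [IsLocalRing B] in
theorem exists_psi (hB : Hens2.IsPairHenselization R[X] (Ideal.span {(X : R[X])}) B) :
    Nonempty (B →ₐ[R[X]] PowerSeries R) := by
  have h1 : HenselianRing (PowerSeries R) (Ideal.span {(PowerSeries.X : PowerSeries R)}) :=
    inferInstance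
  obtain ⟨g, hg, -⟩ := hB.2 (PowerSeries R) (Ideal.span {(PowerSeries.X : PowerSeries R)})
    (algebraMap R[X] (PowerSeries R)) h1 (by
      rw [Ideal.map_span, Set.image_singleton]
      have : algebraMap R[X] (PowerSeries R) X = PowerSeries.X := Polynomial.coe_X
      rw [this])
  exact ⟨{ g with commutes' := fun p => RingHom.congr_fun hg p }⟩

/-- Prime-to-`p` principal covers of `Spec R((t))` are split by `t ↦ t ^ N`. -/
theorem exists_dm (hC : Cmp.{u}) (R : Type u) [CommRing R] [HenselianLocalRing R]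
    [IsSepClosed (ResidueField R)] (C : Type) [Group C] [Finite C]
    (hn : IsUnit ((Nat.card C : ℕ) : R)) (P : FEt.Cat (SL R)) (ρ : C →* Aut P)
    (hP : SGA1t.IsPrincipal C P ρ) :
    ∃ (N : ℕ) (hN : 0 < N), IsUnit (N : R) ∧ Dm (spw R hN) (Over.mk P.hom) := by
  obtain ⟨B, _, _, hB⟩ := Groth.Agent.S2051.result R[X] (Ideal.span {(X : R[X])})
  obtain ⟨ψ⟩ := exists_psi B hB
  have hloc : HenselianLocalRing B := henselianLocalRing B hB
  have := isEquivalence_kap B ψ hC hB
  obtain ⟨P₀, ρ₀, hP₀, e, -⟩ := Groth.Agent.Pi1.H416.PrincDesc.exists_isPrincipal (kap B ψ) C P ρ hP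
  obtain ⟨N, hN, hu, hs⟩ := exists_ptSplit B hB C hn P₀ ρ₀ hP₀
  obtain ⟨g, hg⟩ := exists_lift B ψ hN
  have h1 := hs.comp g
  rw [hg] at h1
  refine ⟨N, hN, hu, ?_⟩
  have h2 : Dm (spw R hN) ((Over.pullback (kap B ψ)).obj (Over.mk P₀.hom)) := by
    intro Ω _ _ τ x hx
    change Spec (CommRingCat.of Ω) ⟶ pullback P₀.hom (kap B ψ) at x
    change x ≫ pullback.snd P₀.hom (kap B ψ) = τ ≫ spw R hN at hx
    obtain ⟨s, hs1, hs2⟩ := h1 Ω (x ≫ pullback.fst P₀.hom (kap B ψ)) τ (by
      rw [Category.assoc, pullback.condition, reassoc_of% hx])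
    refine ⟨pullback.lift s (spw R hN) hs1, pullback.lift_snd _ _ _, ?_⟩
    apply pullback.hom_ext
    · rw [Category.assoc, pullback.lift_fst, hs2]
      rfl
    · rw [Category.assoc, pullback.lift_snd]
      exact hx.symm
  exact h2.iso ((MorphismProperty.Over.forget FEt.prop ⊤ (SL R)).mapIso e)

end K153.HensLaur
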