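import Groth.Prelude.Def_Hens2
import Groth.Agent.NonAbH1.K551.TruncQuot
import Groth.Agent.S11952
import Groth.Agent.Proet.SHEquiv
import Groth.Agent.Pi1.H415.KumSH
import Mathlib.AlgebraicGeometry.Stalk

/-!
# The ring `R{t}` for `R` strictly henselian local

`B` a henselization of `(R[X], (X))`, `R` henselian local.

* `henselianLocalRing`: `B` is a henselian local ring; `isLocalHom_base`: `R → B` is local.
* `isStrictHenselization`: for `R` strictly henselian, `B` is a strict henselization of the local ring of
  `Spec R[X]` at the image of the closed point.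
-/

set_option autoImplicit false

universe u

open CategoryTheory AlgebraicGeometry Polynomial IsLocalRing

namespace K153.HensLoc

variable {R : Type u} [CommRing R] (B : Type u) [CommRing B] [Algebra R[X] B]

/-- The structure map `R → B`. -/
noncomputable abbrev base : R →+* B := (algebraMap R[X] B).comp Polynomial.C

theorem quot_bijective :
    Function.Bijective ((Ideal.Quotient.mk (Ideal.span {(X : R[X])})).comp (Polynomial.C (R := R))) := by
  constructor
  · rw [injective_iff_map_eq_zero]
    intro r hr
    rw [RingHom.comp_apply, Ideal.Quotient.eq_zero_iff_mem, Ideal.mem_span_singleton,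
      Polynomial.X_dvd_iff, Polynomial.coeff_C_zero] at hr
    exact hr
  · intro y
    obtain ⟨p, rfl⟩ := Ideal.Quotient.mk_surjective y
    refine ⟨p.coeff 0, ?_⟩
    rw [RingHom.comp_apply, Ideal.Quotient.eq, Ideal.mem_span_singleton, Polynomial.X_dvd_iff,
      Polynomial.coeff_sub, Polynomial.coeff_C_zero, sub_self]

variable (hB : Hens2.IsPairHenselization R[X] (Ideal.span {(X : R[X])}) B)
include hB

theorem base_bijective :
    Function.Bijective ((Ideal.Quotient.mk ((Ideal.span {(X : R[X])}).map (algebraMap R[X] B))).comp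
      (base (R := R) B)) := by
  have := Groth.Agent.Etalg.PairHens2.flat (B := B) hB
  have h1 := Groth.Agent.Etalg.PairHens2.quot_bijective (B := B) hB
  exact h1.comp (quot_bijective (R := R))

theorem exists_sub_mem (b : B) : ∃ (r : R) (c : B), b = base B r + algebraMap R[X] B X * c := by
  obtain ⟨p, c, hc⟩ := K551.TruncQuot.exists_sub_mem hB 1 b
  refine ⟨p.coeff 0, algebraMap R[X] B p.divX + c, ?_⟩
  have h1 : p = X * p.divX + C (p.coeff 0) := by
    rw [mul_comm]; exact (Polynomial.divX_mul_X_add p).symm
  have h2 : algebraMap R[X] B p = algebraMap R[X] B X * algebraMap R[X] B p.divX +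
      algebraMap R[X] B (C (p.coeff 0)) := by
    rw [← map_mul, ← map_add, ← h1]
  rw [hc, h2, pow_one]
  change _ = algebraMap R[X] B (C (p.coeff 0)) + _
  ring

theorem henselianLocalRing [HenselianLocalRing R] : HenselianLocalRing B := by
  have h1 : HenselianRing B ((Ideal.span {(X : R[X])}).map (algebraMap R[X] B)) := hB.1
  have h2 : HenselianLocalRing (B ⧸ (Ideal.span {(X : R[X])}).map (algebraMap R[X] B)) :=
    Groth.Agent.Proet.SHEquiv.henselianLocalRing_of_ringEquiv
      (RingEquiv.ofBijective _ (base_bijective B hB))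
  exact Groth.Agent.S11952.result B ((Ideal.span {(X : R[X])}).map (algebraMap R[X] B))

theorem map_le_maximalIdeal [IsLocalRing B] :
    (Ideal.span {(X : R[X])}).map (algebraMap R[X] B) ≤ maximalIdeal B := by
  have h1 : HenselianRing B ((Ideal.span {(X : R[X])}).map (algebraMap R[X] B)) := hB.1
  rw [← IsLocalRing.jacobson_eq_maximalIdeal ⊥ bot_ne_top]
  exact h1.jac

theorem X_mem_maximalIdeal [IsLocalRing B] : algebraMap R[X] B X ∈ maximalIdeal B :=
  map_le_maximalIdeal B hB (Ideal.mem_map_of_mem _ (Ideal.mem_span_singleton_self _))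

theorem isLocalHom_base : IsLocalHom (base (R := R) B) := by
  constructor
  intro r hr
  have h1 := hr.map (Ideal.Quotient.mk ((Ideal.span {(X : R[X])}).map (algebraMap R[X] B)))
  have h3 : IsUnit ((RingEquiv.ofBijective _ (base_bijective B hB)) r) := h1
  exact (MulEquiv.isUnit_map (RingEquiv.ofBijective _ (base_bijective B hB))).1 h3

theorem residue_comp_surjective [IsLocalRing B] : Function.Surjective ((residue B).comp (base (R := R) B)) := by
  intro y
  obtain ⟨b, rfl⟩ := IsLocalRing.residue_surjective y
  obtain ⟨r, c, rfl⟩ := exists_sub_mem B hB b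
  refine ⟨r, ?_⟩
  rw [RingHom.comp_apply, map_add, map_mul,
    (residue_eq_zero_iff _).2 (X_mem_maximalIdeal B hB), zero_mul, add_zero]

theorem isSepClosed_residueField [IsLocalRing R] [IsSepClosed (ResidueField R)] [IsLocalRing B] :
    IsSepClosed (ResidueField B) := by
  have := isLocalHom_base B hB
  refine Groth.Agent.Pi1.H415.KumSH.isSepClosed_of_surjective
    (IsLocalRing.ResidueField.map (base (R := R) B)) ?_
  intro y
  obtain ⟨r, rfl⟩ := residue_comp_surjective B hB y
  exact ⟨residue R r, IsLocalRing.ResidueField.map_residue _ _⟩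

omit hB in
/-- `Spec B → Spec R[X]`. -/
noncomputable abbrev fB : Spec (CommRingCat.of B) ⟶ Spec (CommRingCat.of R[X]) :=
  Spec.map (CommRingCat.ofHom (algebraMap R[X] B))

omit hB in
/-- The image of the closed point. -/
noncomputable def pt [IsLocalRing B] : ↥(Spec (CommRingCat.of R[X])) := fB (R := R) B (closedPoint B)

omit hB in
/-- `B` as an algebra over the local ring of `Spec R[X]`. -/
noncomputable instance algStalk [IsLocalRing B] :
    Algebra ((Spec (CommRingCat.of R[X])).presheaf.stalk (pt (R := R) B)) B :=
  (Scheme.stalkClosedPointTo (fB (R := R) B)).hom.toAlgebra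

omit hB in
theorem algStalk_def [IsLocalRing B] :
    algebraMap ((Spec (CommRingCat.of R[X])).presheaf.stalk (pt (R := R) B)) B =
      (Scheme.stalkClosedPointTo (fB (R := R) B)).hom := rfl

omit hB in
instance isLocalHom_stalk [IsLocalRing B] :
    IsLocalHom (algebraMap ((Spec (CommRingCat.of R[X])).presheaf.stalk (pt (R := R) B)) B) :=
  Scheme.isLocalHom_stalkClosedPointTo' (fB (R := R) B)

omit hB in
theorem specOf_eq [IsLocalRing B] : Hens2.specOf (Spec (CommRingCat.of R[X])) (pt (R := R) B) B = fB B :=
  Scheme.Spec_stalkClosedPointTo_fromSpecStalk (fB (R := R) B)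

omit hB in
/-- The map from the polynomial ring to the local ring. -/
noncomputable def toStalk [IsLocalRing B] :
    R[X] →+* (Spec (CommRingCat.of R[X])).presheaf.stalk (pt (R := R) B) :=
  ((Scheme.ΓSpecIso (CommRingCat.of R[X])).inv ≫
    (Spec (CommRingCat.of R[X])).presheaf.germ ⊤ (pt (R := R) B) trivial).hom

omit hB in
theorem algebraMap_toStalk [IsLocalRing B] (p : R[X]) :
    algebraMap ((Spec (CommRingCat.of R[X])).presheaf.stalk (pt (R := R) B)) B (toStalk B p) =
      algebraMap R[X] B p := by
  have h : (Scheme.ΓSpecIso (CommRingCat.of R[X])).inv ≫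
      (Spec (CommRingCat.of R[X])).presheaf.germ ⊤ (pt (R := R) B) trivial ≫
        Scheme.stalkClosedPointTo (fB (R := R) B) = CommRingCat.ofHom (algebraMap R[X] B) := by
    have h1 := Scheme.germ_stalkClosedPointTo_Spec (CommRingCat.ofHom (algebraMap R[X] B))
    erw [h1]
    rw [Iso.inv_hom_id_assoc]
  exact RingHom.congr_fun (congrArg CommRingCat.Hom.hom h) p

omit hB in
theorem stalk_hom_ext [IsLocalRing B] {C : Type*} [CommRing C]
    {g h : (Spec (CommRingCat.of R[X])).presheaf.stalk (pt (R := R) B) →+* C}
    (H : ∀ p, g (toStalk B p) = h (toStalk B p)) : g = h := by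
  have hloc := StructureSheaf.IsLocalization.to_stalk (CommRingCat.of R[X]) (pt (R := R) B)
  exact @IsLocalization.ringHom_ext _ _ (pt (R := R) B).asIdeal.primeCompl _ _ _ hloc C _ g h
    (RingHom.ext fun p => H p)

omit hB in
theorem toStalk_mem_maximalIdeal [IsLocalRing B] (p : R[X]) (hp : algebraMap R[X] B p ∈ maximalIdeal B) :
    toStalk B p ∈ maximalIdeal ((Spec (CommRingCat.of R[X])).presheaf.stalk (pt (R := R) B)) := by
  rw [IsLocalRing.mem_maximalIdeal, mem_nonunits_iff] at hp ⊢
  intro h
  apply hp
  rw [← algebraMap_toStalk]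
  exact h.map _

theorem residueMap_surjective [IsLocalRing B] : Function.Surjective (IsLocalRing.ResidueField.map
    (algebraMap ((Spec (CommRingCat.of R[X])).presheaf.stalk (pt (R := R) B)) B)) := by
  intro y
  obtain ⟨r, rfl⟩ := residue_comp_surjective B hB y
  refine ⟨residue _ (toStalk B (C r)), ?_⟩
  rw [IsLocalRing.ResidueField.map_residue, algebraMap_toStalk]
  rfl

theorem isStrictHenselization [HenselianLocalRing R] [IsSepClosed (ResidueField R)] [IsLocalRing B] :
    Hensel.IsStrictHenselization ((Spec (CommRingCat.of R[X])).presheaf.stalk (pt (R := R) B)) B where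
  henselian := henselianLocalRing B hB
  isSepClosure := by
    have h1 := isSepClosed_residueField B hB
    refine ⟨h1, ⟨fun y => ?_⟩⟩
    obtain ⟨z, rfl⟩ := residueMap_surjective B hB y
    exact isSeparable_algebraMap z
  universal := by
    intro T _ _ f _ τ hτ
    have hT : HenselianRing T (maximalIdeal T) := inferInstance
    have hX : (Ideal.span {(X : R[X])}).map (f.comp (toStalk B)) ≤ maximalIdeal T := by
      rw [Ideal.map_span, Set.image_singleton, Ideal.span_singleton_le_iff_mem, RingHom.comp_apply]
      have h1 := toStalk_mem_maximalIdeal B X (X_mem_maximalIdeal B hB)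
      rw [IsLocalRing.mem_maximalIdeal, mem_nonunits_iff] at h1 ⊢
      exact fun h => h1 (IsUnit.of_map f _ h)
    obtain ⟨g, hg, hu⟩ := hB.2 T (maximalIdeal T) (f.comp (toStalk B)) hT hX
    have hg' : g.comp (algebraMap ((Spec (CommRingCat.of R[X])).presheaf.stalk (pt (R := R) B)) B) = f := by
      apply stalk_hom_ext
      intro p
      rw [RingHom.comp_apply, algebraMap_toStalk]
      exact RingHom.congr_fun hg p
    refine ⟨g, ⟨hg', fun b => ?_⟩, fun g' hg2 => ?_⟩
    · obtain ⟨r, c, rfl⟩ := exists_sub_mem B hB b
      have hXT : residue T (g (algebraMap R[X] B X)) = 0 := by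
        rw [residue_eq_zero_iff]
        apply hX
        rw [← hg]
        exact Ideal.mem_map_of_mem (g.comp (algebraMap R[X] B)) (Ideal.mem_span_singleton_self _)
      have hXB : residue B (algebraMap R[X] B X) = 0 :=
        (residue_eq_zero_iff _).2 (X_mem_maximalIdeal B hB)
      rw [map_add, map_mul, map_add, map_mul, hXT, zero_mul, add_zero, map_add, map_mul, hXB,
        zero_mul, add_zero]
      have h2 : g (base B r) = f (toStalk B (C r)) := RingHom.congr_fun hg (C r)
      have h3 : residue B (base (R := R) B r) = IsLocalRing.ResidueField.map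
          (algebraMap ((Spec (CommRingCat.of R[X])).presheaf.stalk (pt (R := R) B)) B)
            (residue _ (toStalk B (C r))) := by
        rw [IsLocalRing.ResidueField.map_residue, algebraMap_toStalk]
        rfl
      rw [h2, h3]
      have h4 := RingHom.congr_fun hτ (residue _ (toStalk B (C r)))
      rw [RingHom.comp_apply, IsLocalRing.ResidueField.map_residue] at h4
      exact h4.symm
    · apply hu
      rw [← hg2.1]
      refine RingHom.ext fun p => ?_
      change g' (algebraMap R[X] B p) = g' (algebraMap _ B (toStalk B p))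
      rw [algebraMap_toStalk]

end K153.HensLoc
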