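import Mathlib.RingTheory.LaurentSeries
import Groth.Agent.CAlg.K88.LaurentBasic
import Groth.Agent.Pi1.H390.T1KumRing

/-!
# The map `t ↦ t ^ N` of a Laurent series ring

* `pw R hN` : `R((t)) → R((t))`, `t ↦ t ^ N`;
* `sec hN i f`: `f = ∑_{i < N} pw (sec i f) t ^ i`, uniquely;
* `kum hN : R((t))[Y] / (Y ^ N - t) ≃ R((t))`;
* `finite_pw`, `etale_pw`, `hom_ext`, `isPushout_pw`.
-/

set_option autoImplicit false

universe u

open CategoryTheory CategoryTheory.Limits HahnSeries
open Groth.Agent.Pi1.H390.T1KumRing (pol monic_pol finite_of etale_of eval_pol)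

namespace K153.Laur

theorem mul_inj {N : ℕ} (hN : 0 < N) : Function.Injective (AddMonoidHom.mulLeft (N : ℤ)) := by
  intro a b h
  have h0 : (N : ℤ) ≠ 0 := by exact_mod_cast hN.ne'
  exact mul_left_cancel₀ h0 h

theorem mul_mono {N : ℕ} (hN : 0 < N) :
    ∀ g g' : ℤ, AddMonoidHom.mulLeft (N : ℤ) g ≤ AddMonoidHom.mulLeft (N : ℤ) g' ↔ g ≤ g' := by
  intro g g'
  have h0 : 0 < (N : ℤ) := by exact_mod_cast hN
  exact mul_le_mul_iff_right₀ h0

variable (R : Type u) [CommRing R]

/-- `t ↦ t ^ N`. -/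
noncomputable def pw {N : ℕ} (hN : 0 < N) : LaurentSeries R →+* LaurentSeries R :=
  HahnSeries.embDomainRingHom (AddMonoidHom.mulLeft (N : ℤ)) (mul_inj hN) (mul_mono hN)

/-- The coordinate `t`. -/
noncomputable def tt : LaurentSeries R := single (1 : ℤ) (1 : R)

variable {R}

theorem pw_coeff_mul {N : ℕ} (hN : 0 < N) (f : LaurentSeries R) (m : ℤ) :
    (pw R hN f).coeff (N * m) = f.coeff m :=
  HahnSeries.embDomain_coeff (f := ⟨⟨AddMonoidHom.mulLeft (N : ℤ), mul_inj hN⟩, mul_mono hN _ _⟩)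

theorem pw_coeff_of_not_dvd {N : ℕ} (hN : 0 < N) (f : LaurentSeries R) (m : ℤ)
    (h : ¬ (N : ℤ) ∣ m) : (pw R hN f).coeff m = 0 := by
  apply HahnSeries.embDomain_of_notMem_range
  rintro ⟨a, ha⟩
  exact h ⟨a, ha.symm⟩

theorem tt_pow (n : ℕ) : tt R ^ n = single (n : ℤ) (1 : R) := by
  rw [tt, single_pow, one_pow]
  simp

theorem isUnit_tt : IsUnit (tt R) := K88.LaurentBasic.isUnit_single 1

theorem pw_single {N : ℕ} (hN : 0 < N) (n : ℤ) (r : R) :
    pw R hN (single n r) = single (N * n) r :=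
  HahnSeries.embDomain_single (f := ⟨⟨AddMonoidHom.mulLeft (N : ℤ), mul_inj hN⟩, mul_mono hN _ _⟩)

theorem pw_tt {N : ℕ} (hN : 0 < N) : pw R hN (tt R) = tt R ^ N := by
  rw [tt_pow, tt, pw_single, mul_one]

/-- `R((t)) → R((t))` is determined by its coefficients. -/
theorem pw_comp {N M : ℕ} (hN : 0 < N) (hM : 0 < M) :
    (pw R hM).comp (pw R hN) = pw R (Nat.mul_pos hM hN) := by
  ext f m
  by_cases h : ((M * N : ℕ) : ℤ) ∣ m
  · obtain ⟨a, rfl⟩ := h
    rw [pw_coeff_mul, RingHom.comp_apply]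
    push_cast
    rw [mul_assoc, pw_coeff_mul, pw_coeff_mul]
  · rw [pw_coeff_of_not_dvd _ _ _ h, RingHom.comp_apply]
    by_cases h1 : (M : ℤ) ∣ m
    · obtain ⟨a, rfl⟩ := h1
      rw [pw_coeff_mul, pw_coeff_of_not_dvd]
      rintro ⟨b, rfl⟩
      exact h ⟨b, by push_cast; ring⟩
    · exact pw_coeff_of_not_dvd _ _ _ h1

theorem bddBelow_sec {N : ℕ} (hN : 0 < N) (i : ℕ) (f : LaurentSeries R) :
    BddBelow (Function.support fun m : ℤ => f.coeff (N * m + i)) := by
  obtain ⟨M, hM⟩ := K88.LaurentBasic.exists_bound f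
  refine ⟨-((M : ℤ) + i), fun m hm => ?_⟩
  by_contra h
  rw [not_le] at h
  apply hm
  apply hM
  have h1 : (1 : ℤ) ≤ N := by exact_mod_cast hN
  have h2 : (N : ℤ) * m ≤ 1 * m := mul_le_mul_of_nonpos_right h1 (by omega)
  omega

/-- The part of `f` in degrees congruent to `i` modulo `N`. -/
noncomputable def sec {N : ℕ} (hN : 0 < N) (i : ℕ) (f : LaurentSeries R) : LaurentSeries R :=
  ofSuppBddBelow (fun m : ℤ => f.coeff (N * m + i)) (bddBelow_sec hN i f)

theorem sec_coeff {N : ℕ} (hN : 0 < N) (i : ℕ) (f : LaurentSeries R) (m : ℤ) :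
    (sec hN i f).coeff m = f.coeff (N * m + i) := rfl

theorem coeff_sum {N : ℕ} (hN : 0 < N) (g : ℕ → LaurentSeries R) (m : ℤ) (i : ℕ) (hi : i < N) :
    (∑ j ∈ Finset.range N, pw R hN (g j) * tt R ^ j).coeff (N * m + i) = (g i).coeff m := by
  rw [HahnSeries.coeff_sum, Finset.sum_eq_single i]
  · rw [tt_pow, coeff_mul_single, mul_one, add_sub_cancel_right, pw_coeff_mul]
  · intro j hj hji
    rw [Finset.mem_range] at hj
    rw [tt_pow, coeff_mul_single, mul_one, pw_coeff_of_not_dvd]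
    rintro ⟨c, hc⟩
    have h1 : (i : ℤ) - j = N * (c - m) := by linear_combination hc
    have h2 : |(i : ℤ) - j| < N := by
      rw [abs_lt]; omega
    have h3 : (i : ℤ) - j = 0 := Int.eq_zero_of_abs_lt_dvd ⟨_, h1⟩ h2
    omega
  · intro h
    exact absurd (Finset.mem_range.2 hi) h

theorem exists_form {N : ℕ} (hN : 0 < N) (n : ℤ) : ∃ (m : ℤ) (i : ℕ), i < N ∧ n = N * m + i := by
  have h0 : (0 : ℤ) < N := by exact_mod_cast hN
  refine ⟨n / N, (n % N).toNat, ?_, ?_⟩
  · have h1 := Int.emod_lt_of_pos n h0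
    have h2 := Int.emod_nonneg n h0.ne'
    omega
  · have h2 := Int.emod_nonneg n h0.ne'
    rw [Int.toNat_of_nonneg h2]
    exact (Int.mul_ediv_add_emod n N).symm

theorem eq_sum {N : ℕ} (hN : 0 < N) (f : LaurentSeries R) :
    f = ∑ j ∈ Finset.range N, pw R hN (sec hN j f) * tt R ^ j := by
  ext n
  obtain ⟨m, i, hi, rfl⟩ := exists_form hN n
  rw [coeff_sum hN _ m i hi, sec_coeff]

theorem eq_zero_of_sum {N : ℕ} (hN : 0 < N) (g : ℕ → LaurentSeries R)
    (h : ∑ j ∈ Finset.range N, pw R hN (g j) * tt R ^ j = 0) (i : ℕ) (hi : i < N) : g i = 0 := by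
  ext m
  rw [← coeff_sum hN g m i hi, h]
  rfl

theorem hom_ext {C : Type*} [CommRing C] {N : ℕ} (hN : 0 < N) {φ ψ : LaurentSeries R →+* C}
    (h1 : φ.comp (pw R hN) = ψ.comp (pw R hN)) (h2 : φ (tt R) = ψ (tt R)) : φ = ψ := by
  ext f
  rw [eq_sum hN f, map_sum, map_sum]
  refine Finset.sum_congr rfl fun i _ => ?_
  rw [map_mul, map_mul, map_pow, map_pow, h2]
  congr 1
  exact RingHom.congr_fun h1 _

open Polynomial in
/-- The map from the Kummer algebra. -/
noncomputable def kumHom {N : ℕ} (hN : 0 < N) : AdjoinRoot (pol N (tt R)) →+* LaurentSeries R :=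
  AdjoinRoot.lift (pw R hN) (tt R) (eval_pol N _ _ _ (pw_tt hN).symm)

theorem kumHom_comp_of {N : ℕ} (hN : 0 < N) :
    (kumHom hN).comp (AdjoinRoot.of (pol N (tt R))) = pw R hN :=
  AdjoinRoot.lift_comp_of _

theorem kumHom_of {N : ℕ} (hN : 0 < N) (f : LaurentSeries R) :
    kumHom hN (AdjoinRoot.of (pol N (tt R)) f) = pw R hN f := AdjoinRoot.lift_of _

theorem kumHom_root {N : ℕ} (hN : 0 < N) :
    kumHom hN (AdjoinRoot.root (pol N (tt R))) = tt R := AdjoinRoot.lift_root _

theorem kumHom_bijective {N : ℕ} (hN : 0 < N) : Function.Bijective (kumHom (R := R) hN) := by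
  constructor
  · rw [injective_iff_map_eq_zero]
    intro x hx
    obtain ⟨q, rfl⟩ := AdjoinRoot.mk_surjective x
    have hmon := monic_pol (B := LaurentSeries R) hN.ne' (tt R)
    have h1 : AdjoinRoot.mk (pol N (tt R)) q =
        AdjoinRoot.mk (pol N (tt R)) (q %ₘ (pol N (tt R))) := by
      conv_lhs => rw [← Polynomial.modByMonic_add_div q (pol N (tt R))]
      rw [map_add, map_mul, AdjoinRoot.mk_self, zero_mul, add_zero]
    rcases subsingleton_or_nontrivial (LaurentSeries R) with hs | hs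
    · have : Subsingleton (AdjoinRoot (pol N (tt R))) :=
        (AdjoinRoot.mk_surjective (g := pol N (tt R))).subsingleton
      exact Subsingleton.elim _ _
    have hdeg : (q %ₘ (pol N (tt R))).natDegree < N := by
      have h2 := Polynomial.natDegree_modByMonic_lt q hmon (by
        intro h3
        have h4 := congrArg Polynomial.natDegree h3
        rw [Polynomial.natDegree_X_pow_sub_C, Polynomial.natDegree_one] at h4
        omega)
      rwa [Polynomial.natDegree_X_pow_sub_C] at h2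
    rw [h1] at hx ⊢
    set r := q %ₘ (pol N (tt R)) with hr
    have h5 : kumHom hN (AdjoinRoot.mk (pol N (tt R)) r) =
        ∑ j ∈ Finset.range N, pw R hN (r.coeff j) * tt R ^ j := by
      have h6 : kumHom hN (AdjoinRoot.mk (pol N (tt R)) r) = r.eval₂ (pw R hN) (tt R) :=
        AdjoinRoot.lift_mk _ _
      rw [h6, Polynomial.eval₂_eq_sum_range' _ hdeg]
    rw [h5] at hx
    have h7 : r = 0 := by
      ext1 i
      rw [Polynomial.coeff_zero]
      rcases lt_or_ge i N with hi | hi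
      · exact eq_zero_of_sum hN _ hx i hi
      · exact Polynomial.coeff_eq_zero_of_natDegree_lt (by omega)
    rw [h7, map_zero]
  · intro f
    refine ⟨∑ j ∈ Finset.range N, AdjoinRoot.of (pol N (tt R)) (sec hN j f) *
      AdjoinRoot.root (pol N (tt R)) ^ j, ?_⟩
    rw [map_sum]
    conv_rhs => rw [eq_sum hN f]
    refine Finset.sum_congr rfl fun i _ => ?_
    rw [map_mul, map_pow, kumHom_of, kumHom_root]

/-- `R((t))[Y] / (Y ^ N - t) ≃ R((t))`. -/
noncomputable def kum {N : ℕ} (hN : 0 < N) : AdjoinRoot (pol N (tt R)) ≃+* LaurentSeries R :=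
  RingEquiv.ofBijective (kumHom hN) (kumHom_bijective hN)

theorem kum_comp_of {N : ℕ} (hN : 0 < N) :
    (kum hN).toRingHom.comp (AdjoinRoot.of (pol N (tt R))) = pw R hN := kumHom_comp_of hN

theorem kum_symm_tt {N : ℕ} (hN : 0 < N) :
    (kum hN).symm (tt R) = AdjoinRoot.root (pol N (tt R)) := by
  rw [RingEquiv.symm_apply_eq]
  exact (kumHom_root hN).symm

theorem kum_symm_comp_pw {N : ℕ} (hN : 0 < N) :
    (kum hN).symm.toRingHom.comp (pw R hN) = AdjoinRoot.of (pol N (tt R)) := by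
  ext f
  change (kum hN).symm (pw R hN f) = _
  rw [RingEquiv.symm_apply_eq]
  exact (kumHom_of hN f).symm

theorem finite_pw {N : ℕ} (hN : 0 < N) : (pw R hN).Finite := by
  rw [← kum_comp_of]
  exact RingHom.Finite.comp (RingHom.Finite.of_surjective _ (kum hN).surjective)
    (finite_of hN.ne' (tt R))

theorem etale_pw {N : ℕ} (hN : 0 < N) (hu : IsUnit (N : R)) : (pw R hN).Etale := by
  rw [← kum_comp_of]
  refine RingHom.Etale.stableUnderComposition _ _ ?_
    (RingHom.Etale.of_bijective (kum (R := R) hN).bijective)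
  refine etale_of hN.ne' (tt R) isUnit_tt ?_
  have h : ((N : ℕ) : LaurentSeries R) = HahnSeries.C ((N : ℕ) : R) := (map_natCast HahnSeries.C N).symm
  rw [h]
  exact hu.map _

/-- Ring homomorphisms out of `R((t))` extending a given one along `pw`. -/
noncomputable def lift {C : Type u} [CommRing C] {N : ℕ} (hN : 0 < N) (φ : LaurentSeries R →+* C) (x : C)
    (hx : x ^ N = φ (tt R)) : LaurentSeries R →+* C :=
  (AdjoinRoot.lift φ x (eval_pol N φ (tt R) x hx)).comp (kum hN).symm.toRingHom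

theorem lift_comp_pw {C : Type u} [CommRing C] {N : ℕ} (hN : 0 < N) (φ : LaurentSeries R →+* C) (x : C)
    (hx : x ^ N = φ (tt R)) : (lift hN φ x hx).comp (pw R hN) = φ := by
  rw [lift, RingHom.comp_assoc, kum_symm_comp_pw]
  exact AdjoinRoot.lift_comp_of _

theorem lift_tt {C : Type u} [CommRing C] {N : ℕ} (hN : 0 < N) (φ : LaurentSeries R →+* C) (x : C)
    (hx : x ^ N = φ (tt R)) : lift hN φ x hx (tt R) = x := by
  change AdjoinRoot.lift φ x (eval_pol N φ (tt R) x hx) ((kum hN).symm (tt R)) = x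
  rw [kum_symm_tt]
  exact AdjoinRoot.lift_root _

/-- `t ↦ t ^ N` is compatible with maps preserving `t`. -/
theorem isPushout_pw {k : Type u} [CommRing k] {N : ℕ} (hN : 0 < N)
    (ρ : LaurentSeries R →+* LaurentSeries k) (h1 : ρ.comp (pw R hN) = (pw k hN).comp ρ)
    (h2 : ρ (tt R) = tt k) :
    IsPushout (CommRingCat.ofHom (pw R hN)) (CommRingCat.ofHom ρ) (CommRingCat.ofHom ρ)
      (CommRingCat.ofHom (pw k hN)) := by
  have hw : ∀ s : PushoutCocone (CommRingCat.ofHom (pw R hN)) (CommRingCat.ofHom ρ),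
      s.inl.hom (tt R) ^ N = s.inr.hom (tt k) := fun s => by
    rw [← map_pow, ← pw_tt hN, ← h2]
    exact RingHom.congr_fun (congrArg CommRingCat.Hom.hom s.condition) (tt R)
  refine ⟨⟨CommRingCat.hom_ext h1⟩, ⟨PushoutCocone.IsColimit.mk _
    (fun s => CommRingCat.ofHom (lift hN s.inr.hom (s.inl.hom (tt R)) (hw s)))
    (fun s => ?_) (fun s => ?_) (fun s m hm1 hm2 => ?_)⟩⟩
  · refine CommRingCat.hom_ext (hom_ext hN ?_ ?_)
    · change ((lift hN s.inr.hom (s.inl.hom (tt R)) (hw s)).comp ρ).comp (pw R hN) = _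
      rw [RingHom.comp_assoc, h1, ← RingHom.comp_assoc, lift_comp_pw]
      exact (congrArg CommRingCat.Hom.hom s.condition).symm
    · change lift hN s.inr.hom (s.inl.hom (tt R)) (hw s) (ρ (tt R)) = _
      rw [h2, lift_tt]
  · exact CommRingCat.hom_ext (lift_comp_pw hN _ _ (hw s))
  · refine CommRingCat.hom_ext (hom_ext hN ?_ ?_)
    · refine (congrArg CommRingCat.Hom.hom hm2).trans ?_
      exact (lift_comp_pw hN _ _ (hw s)).symm
    · have h3 := RingHom.congr_fun (congrArg CommRingCat.Hom.hom hm1) (tt R)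
      change m.hom (ρ (tt R)) = s.inl.hom (tt R) at h3
      rw [h2] at h3
      refine h3.trans ?_
      exact (lift_tt hN _ _ (hw s)).symm

end K153.Laur
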