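import Groth.Agent.NonAbH1.K153.LaurTors

/-!
# Torsors over `R((t))` and over `k((t))`

`R` strictly henselian local with residue field `k`, `ρ : R((t)) → k((t))` the residue map.

* `ff_PP`, `exists_PP`: base change along `ρ` is an equivalence between the finite étale schemes over `Spec R((t))`
  and over `Spec k((t))` which are split by some `t ↦ t ^ N`, `N` invertible.
* `bijective`: bijectivity of `H¹(R((t)), G) → H¹(k((t)), G)`.
-/

set_option autoImplicit false

universe u

open CategoryTheory CategoryTheory.Limits MonoidalCategory CartesianMonoidalCategory MonObj GrpObj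
open AlgebraicGeometry IsLocalRing

namespace K153.LaurRes

open K153.Laur K153.LaurSch K153.DomSch K153.TorsPrin K153.HensLaur K153.LaurTors

variable {R : Type u} [CommRing R]

section basics

theorem prop_tensor {S : Scheme.{u}} {X Y : Over S} (hX : FEt.prop X.hom) (hY : FEt.prop Y.hom) :
    FEt.prop (X ⊗ Y).hom := by
  have h1 : IsPullback (fst X Y).left (snd X Y).left X.hom Y.hom := IsPullback.of_hasPullback _ _
  rw [← Over.w (fst X Y)]
  exact MorphismProperty.comp_mem _ _ _ (MorphismProperty.of_isPullback h1.flip hY) hX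

theorem surjective_of_prop {S : Scheme.{u}} [ConnectedSpace S] (X : Over S) (hX : FEt.prop X.hom)
    [Nonempty X.left] : Surjective X.hom := by
  have h1 : IsFinite X.hom := hX.1
  have h2 : Etale X.hom := hX.2
  have h3 : IsClopen (Set.range X.hom) :=
    ⟨X.hom.isClosedMap.isClosed_range, X.hom.isOpenMap.isOpen_range⟩
  have h4 := h3.eq_univ (Set.range_nonempty _)
  exact ⟨Set.range_eq_univ.1 h4⟩

end basics

variable [IsLocalRing R] (ρ : LaurentSeries R →+* LaurentSeries (ResidueField R))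
  (hρ : ρ.comp (HahnSeries.ofPowerSeries ℤ R) =
    (HahnSeries.ofPowerSeries ℤ (ResidueField R)).comp (PowerSeries.map (residue R)))

/-- The map `Spec k((t)) → Spec R((t))`. -/
noncomputable abbrev fr : SL (ResidueField R) ⟶ SL R := Spec.map (CommRingCat.ofHom ρ)

include hρ in
theorem connectedSpace_pullback {N : ℕ} (hN : 0 < N) :
    ConnectedSpace ↥(pullback (PW R hN).hom (fr ρ)) := by
  let e := (isPullback ρ hρ hN).isoPullback
  have h : ConnectedSpace ↥(SL (ResidueField R)) := inferInstance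
  exact (e.hom.homeomorph.connectedSpace_iff).1 h

include hρ in
theorem ff_PP : K153.Transport.FF (fr ρ) (PP R) where
  one := by
    refine ⟨⟨inferInstanceAs (IsFinite (𝟙 _)), inferInstanceAs (Etale (𝟙 _))⟩, 1, one_pos, ?_, ?_⟩
    · rw [Nat.cast_one]
      exact isUnit_one
    · exact Dm.refl _
  prod := by
    intro X Y hX hY
    obtain ⟨N, hN, hu, dX, dY⟩ := hX.common hY
    exact ⟨prop_tensor hX.1 hY.1, N, hN, hu,
      Dm.prod dX dY (fst X Y) (snd X Y) (IsPullback.of_hasPullback _ _)⟩
  ff := by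
    intro X Y hX hY
    obtain ⟨N, hN, hu, dX, dY⟩ := hX.common hY
    have := connectedSpace_pullback ρ hρ hN
    exact DomSch.ff (fr ρ) (PW R hN) (PW_prop R hN hu) hX.1 hY.1 dX dY

include hρ in
theorem exists_PP [HenselianLocalRing R] [IsSepClosed (ResidueField R)] (Z : Over (SL (ResidueField R)))
    (hZ : PP (ResidueField R) Z) :
    ∃ X : Over (SL R), PP R X ∧ Nonempty ((Over.pullback (fr ρ)).obj X ≅ Z) := by
  obtain ⟨hZ1, N, hN, hu, dZ⟩ := hZ
  have hu' : IsUnit (N : R) := by
    have h1 : residue R (N : R) = (N : ResidueField R) := map_natCast _ _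
    rw [← h1] at hu
    exact IsUnit.of_map (residue R) _ hu
  have := connectedSpace_pullback ρ hρ hN
  have hc : ConnectedSpace ↥(PW R hN).left := inferInstanceAs (ConnectedSpace ↥(SL R))
  let e := (isPullback ρ hρ hN).isoPullback
  have h2 : pullback.snd (PW R hN).hom (fr ρ) = e.inv ≫ spw (ResidueField R) hN :=
    ((isPullback ρ hρ hN).isoPullback_inv_snd).symm
  have dZ' : Dm (pullback.snd (PW R hN).hom (fr ρ)) Z := by
    rw [h2]
    exact dZ.comp e.inv
  obtain ⟨X, hX, dX, hi⟩ := DomSch.exists_obj (fr ρ) (PW R hN) (PW_prop R hN hu')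
    (dm_self R hN hu') Z hZ1 dZ'
  exact ⟨X, ⟨hX, N, hN, hu', dX⟩, hi⟩

/-- Geometric points of `Spec R((t))`. -/
theorem exists_geomPt (k : Type u) [Field k] :
    ∃ (Ω : Type u) (_ : Field Ω) (_ : IsAlgClosed Ω), Nonempty (Spec (CommRingCat.of Ω) ⟶ SL k) := by
  have h : Nonempty ↥(SL k) := inferInstance
  obtain ⟨x⟩ := h
  exact ⟨AlgebraicClosure ((SL k).residueField x), inferInstance, inferInstance,
    ⟨Spec.map (CommRingCat.ofHom (algebraMap ((SL k).residueField x)
      (AlgebraicClosure ((SL k).residueField x)))) ≫ (SL k).fromSpecResidueField x⟩⟩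

theorem isSepClosed_residueField_residueField [IsSepClosed (ResidueField R)] :
    IsSepClosed (ResidueField (ResidueField R)) :=
  Groth.Agent.Pi1.H415.KumSH.isSepClosed_of_surjective (residue (ResidueField R))
    (IsLocalRing.residue_surjective)

include hρ in
theorem dm_bc {N : ℕ} (hN : 0 < N) {X : Over (SL R)} (d : Dm (spw R hN) X) :
    Dm (spw (ResidueField R) hN) ((Over.pullback (fr ρ)).obj X) :=
  d.pullback (fr ρ) (spw (ResidueField R) hN) (fr ρ) (isPullback ρ hρ hN).w

include hρ in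
theorem card_bc {N : ℕ} (hN : 0 < N) (G : Over (SL R)) (hG : FEt.prop G.hom) (d : Dm (spw R hN) G) :
    Nat.card (Over.mk (spw (ResidueField R) hN) ⟶ (Over.pullback (fr ρ)).obj G) =
      Nat.card (Over.mk (spw R hN) ⟶ G) := by
  obtain ⟨Ω, _, _, ⟨ξ⟩⟩ := exists_geomPt (ResidueField R)
  have hG' : FEt.prop ((Over.pullback (fr ρ)).obj G).hom :=
    MorphismProperty.of_isPullback (IsPullback.of_hasPullback G.hom (fr ρ)) hG
  rw [card_eq (spw (ResidueField R) hN) hG' (dm_bc ρ hρ hN d) ξ,
    card_eq (spw R hN) hG d (ξ ≫ fr ρ)]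
  have h1 : (ξ ≫ spw (ResidueField R) hN) ≫ fr ρ = (ξ ≫ fr ρ) ≫ spw R hN := by
    rw [Category.assoc, Category.assoc, (isPullback ρ hρ hN).w]
  rw [← h1]
  exact (Nat.card_congr ((Over.mapPullbackAdj (fr ρ)).homEquiv
    (Over.mk (ξ ≫ spw (ResidueField R) hN)) G)).symm

include hρ in
theorem bijective (hC : Cmp.{u}) [HenselianLocalRing R] [IsSepClosed (ResidueField R)] {d : ℕ}
    (hd : 0 < d) (hdu : IsUnit (d : R)) (G : Over (SL R)) [GrpObj G] (hG : FEt.prop G.hom)
    (dG : Dm (spw R hd) G) (cG : IsUnit ((Nat.card (Over.mk (spw R hd) ⟶ G) : ℕ) : R)) :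
    Function.Bijective (NonAbH1.H1Sch.bcMap (fr ρ) G Scheme.fppfPrecoverage) := by
  have hsep : IsSepClosed (ResidueField (ResidueField R)) := isSepClosed_residueField_residueField
  refine K153.Transport.bcMap_bijective (ff_PP ρ hρ) Scheme.fppfPrecoverage ⟨hG, d, hd, hdu, dG⟩
    (fun X => tors_PP hC R hd hdu G hG dG cG X) fun Z => ?_
  have hG' : FEt.prop (Red.bc (fr ρ) G).hom :=
    MorphismProperty.of_isPullback (IsPullback.of_hasPullback G.hom (fr ρ)) hG
  have hZ : PP (ResidueField R) Z.X := by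
    refine tors_PP hC (ResidueField R) hd ?_ (Red.bc (fr ρ) G) hG' (dm_bc ρ hρ hd dG) ?_ Z
    · have h1 := hdu.map (residue R)
      rwa [map_natCast] at h1
    · have h1 := cG.map (residue R)
      rw [map_natCast] at h1
      have h2 := card_bc ρ hρ hd G hG dG
      rw [← h2] at h1
      exact h1
  obtain ⟨X, hX, ⟨e⟩⟩ := exists_PP ρ hρ Z.X hZ
  refine ⟨X, hX, ?_, ⟨e⟩⟩
  have hne : Nonempty X.left := by
    have h1 : Surjective Z.X.hom := K551.Tors.surjective_of_torsor Z.isTorsor
    obtain ⟨s⟩ : Nonempty ↥(SL (ResidueField R)) := inferInstance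
    obtain ⟨z, -⟩ := h1.surj s
    exact ⟨(pullback.fst X.hom (fr ρ)) (e.inv.left z)⟩
  have h2 : Surjective X.hom := surjective_of_prop X hX.1
  have h3 : Etale X.hom := hX.1.2
  exact K551.Tors.isLocallyTrivialFor_fppf X.hom ⟨𝟙 _, Category.id_comp _⟩

end K153.LaurRes
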