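import Groth.Agent.NonAbH1.K551.Tors
import Groth.Agent.NonAbH1.K153.DomSch
import Groth.Agent.Pi1.H394.Mu
import Groth.Prelude.Def_SGA1t

/-!
# A torsor over a cover on which the group becomes constant is a principal cover

`σ : T ⟶ S`, `G` a finite étale `S`-group with `Dm σ G` (it becomes constant over `T`), `X` a `G`-torsor. Then
`X ×_S T` is a principal cover of `T` under the finite group `Hom_S(T, G)`.
-/

set_option autoImplicit false
universe u

open CategoryTheory CategoryTheory.Limits MonoidalCategory CartesianMonoidalCategory MonObj GrpObj AlgebraicGeometry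
open Groth.Agent.Books.BorelOrb K551.Tors K153.DomSch

namespace K153.TorsPrin

variable {S T : Scheme.{u}} (σ : T ⟶ S) {G X : Over S} [GrpObj G] (a : AlgGrp.Action G X)

/-- `X ×_S T` over `S`. -/
noncomputable abbrev PS (X : Over S) : Over S := Over.mk (pullback.snd X.hom σ ≫ σ)

/-- The projection to `X`. -/
noncomputable abbrev pX (X : Over S) : PS σ X ⟶ X := Over.homMk (pullback.fst X.hom σ) pullback.condition

/-- The projection to `T`. -/
noncomputable abbrev qT (X : Over S) : PS σ X ⟶ Over.mk σ := Over.homMk (pullback.snd X.hom σ) rfl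

/-- `(x, t) ↦ γ(t) x`. -/
noncomputable abbrev mv (γ : Over.mk σ ⟶ G) : PS σ X ⟶ X := sm a (qT σ X ≫ γ) (pX σ X)

/-- `(x, t) ↦ (γ(t) x, t)`. -/
noncomputable def endo (γ : Over.mk σ ⟶ G) : pullback X.hom σ ⟶ pullback X.hom σ :=
  pullback.lift (mv σ a γ).left (pullback.snd X.hom σ) (Over.w (mv σ a γ))

theorem endo_fst (γ : Over.mk σ ⟶ G) : endo σ a γ ≫ pullback.fst X.hom σ = (mv σ a γ).left :=
  pullback.lift_fst _ _ _

theorem endo_snd (γ : Over.mk σ ⟶ G) : endo σ a γ ≫ pullback.snd X.hom σ = pullback.snd X.hom σ :=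
  pullback.lift_snd _ _ _

/-- `endo` as a morphism over `S`. -/
noncomputable def eS (γ : Over.mk σ ⟶ G) : PS σ X ⟶ PS σ X :=
  Over.homMk (endo σ a γ) (by
    change endo σ a γ ≫ pullback.snd X.hom σ ≫ σ = pullback.snd X.hom σ ≫ σ
    rw [← Category.assoc, endo_snd])

theorem eS_q (γ : Over.mk σ ⟶ G) : eS σ a γ ≫ qT σ X = qT σ X := by
  ext1
  exact endo_snd σ a γ

theorem eS_p (γ : Over.mk σ ⟶ G) : eS σ a γ ≫ pX σ X = mv σ a γ := by
  ext1
  exact endo_fst σ a γ

theorem mv_mul (γ γ' : Over.mk σ ⟶ G) : mv σ a (γ * γ') = eS σ a γ' ≫ mv σ a γ := by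
  rw [mv, mv, comp_sm, ← Category.assoc, eS_q, eS_p, mv, ← mul_sm, comp_mul]

theorem endo_mul (γ γ' : Over.mk σ ⟶ G) : endo σ a (γ * γ') = endo σ a γ' ≫ endo σ a γ := by
  apply pullback.hom_ext
  · rw [endo_fst, Category.assoc, endo_fst, mv_mul]
    rfl
  · rw [endo_snd, Category.assoc, endo_snd, endo_snd]

theorem endo_one : endo σ a (1 : Over.mk σ ⟶ G) = 𝟙 _ := by
  apply pullback.hom_ext
  · rw [endo_fst, Category.id_comp]
    have h : mv σ a (1 : Over.mk σ ⟶ G) = pX σ X := by
      rw [mv, comp_one, one_sm]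
    rw [h]
    rfl
  · rw [endo_snd, Category.id_comp]

variable (hX : FEt.prop X.hom)

/-- The base change of `X` to `T`. -/
noncomputable abbrev bcX : FEt.Cat T := (FEt.restrict σ).obj (toFEt X hX)

/-- The action of `Hom_S(T, G)` on `X ×_S T`. -/
noncomputable def rho : (Over.mk σ ⟶ G) →* Aut (bcX σ hX) :=
  MonoidHom.mk' (fun γ =>
    { hom := MorphismProperty.Over.homMk (endo σ a γ) (endo_snd σ a γ)
      inv := MorphismProperty.Over.homMk (endo σ a γ⁻¹) (endo_snd σ a γ⁻¹)
      hom_inv_id := by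
        apply MorphismProperty.Over.Hom.ext
        change endo σ a γ ≫ endo σ a γ⁻¹ = 𝟙 _
        rw [← endo_mul, inv_mul_cancel, endo_one]
      inv_hom_id := by
        apply MorphismProperty.Over.Hom.ext
        change endo σ a γ⁻¹ ≫ endo σ a γ = 𝟙 _
        rw [← endo_mul, mul_inv_cancel, endo_one] })
    (fun γ γ' => by
      apply Iso.ext
      apply MorphismProperty.Over.Hom.ext
      exact endo_mul σ a γ γ')

theorem rho_hom_left (γ : Over.mk σ ⟶ G) : ((rho σ a hX γ).hom).left = endo σ a γ := rfl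

/-- Evaluation at a geometric point of `T`. -/
noncomputable def ev {Ω : Type u} [Field Ω] (G : Over S) (ξ : Spec (CommRingCat.of Ω) ⟶ T)
    (γ : Over.mk σ ⟶ G) : Over.mk (ξ ≫ σ) ⟶ G :=
  (Over.homMk ξ : Over.mk (ξ ≫ σ) ⟶ Over.mk σ) ≫ γ

omit [GrpObj G] in
theorem ev_bijective [ConnectedSpace T] (hG : FEt.prop G.hom) (dG : Dm σ G)
    {Ω : Type u} [Field Ω] [IsAlgClosed Ω] (ξ : Spec (CommRingCat.of Ω) ⟶ T) :
    Function.Bijective (ev σ G ξ) := by
  constructor
  · intro γ γ' h
    ext1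
    have h1 : Etale G.hom := hG.2
    have h2 : IsFinite G.hom := hG.1
    have h3 : ConnectedSpace ↥(Over.mk σ).left := inferInstanceAs (ConnectedSpace T)
    refine Groth.Agent.Pi1.H394.Mu.hom_ext_of_point G.hom γ.left γ'.left ?_ ξ ?_
    · rw [Over.w γ, Over.w γ']
    · exact congrArg CommaMorphism.left h
  · intro g
    obtain ⟨s, hs, hs'⟩ := dG Ω ξ g.left (Over.w g)
    refine ⟨Over.homMk s hs, ?_⟩
    ext1
    exact hs'

theorem isPrincipal [ConnectedSpace T] (hG : FEt.prop G.hom) (dG : Dm σ G)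
    (ha : NonAbH1.IsTorsorFor Scheme.fppfPrecoverage a) :
    SGA1t.IsPrincipal (Over.mk σ ⟶ G) (bcX σ hX) (rho σ a hX) := by
  constructor
  · have h1 : Surjective X.hom := surjective_of_torsor ha
    have h2 : Surjective (pullback.snd X.hom σ) := inferInstance
    exact h2.1
  · intro Ω _ _ ξ s t
    obtain ⟨s, hs⟩ := s
    obtain ⟨t, ht⟩ := t
    change Spec (CommRingCat.of Ω) ⟶ pullback X.hom σ at s t
    change s ≫ pullback.snd X.hom σ = ξ at hs
    change t ≫ pullback.snd X.hom σ = ξ at ht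
    let Y : Over S := Over.mk (ξ ≫ σ)
    let x : Y ⟶ X := Over.homMk (s ≫ pullback.fst X.hom σ) (by
      change (s ≫ pullback.fst X.hom σ) ≫ X.hom = ξ ≫ σ
      rw [Category.assoc, pullback.condition, reassoc_of% hs])
    let y : Y ⟶ X := Over.homMk (t ≫ pullback.fst X.hom σ) (by
      change (t ≫ pullback.fst X.hom σ) ≫ X.hom = ξ ≫ σ
      rw [Category.assoc, pullback.condition, reassoc_of% ht])
    have key : ∀ γ : Over.mk σ ⟶ G, s ≫ endo σ a γ = t ↔ sm a (ev σ G ξ γ) x = y := by
      intro γ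
      let sS : Y ⟶ PS σ X := Over.homMk s (by
        change s ≫ pullback.snd X.hom σ ≫ σ = ξ ≫ σ
        rw [reassoc_of% hs])
      have h1 : sS ≫ mv σ a γ = sm a (ev σ G ξ γ) x := by
        rw [mv, comp_sm, ← Category.assoc]
        congr 1
        · rw [ev]
          congr 1
          ext1
          exact hs
      have h2 : (sS ≫ mv σ a γ).left = s ≫ endo σ a γ ≫ pullback.fst X.hom σ := by
        rw [endo_fst]
        rfl
      constructor
      · intro h
        rw [← h1]
        ext1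
        rw [h2, ← Category.assoc, h]
        rfl
      · intro h
        apply pullback.hom_ext
        · rw [Category.assoc, ← h2, h1, h]
          rfl
        · rw [Category.assoc, endo_snd, hs, ht]
    obtain ⟨γ, hγ⟩ := (ev_bijective σ hG dG ξ).2 (dif ha.1 y x)
    refine ⟨γ, ?_, fun γ' hγ' => ?_⟩
    · apply Subtype.ext
      change s ≫ endo σ a γ = t
      rw [key, hγ, sm_dif]
    · have h3 : s ≫ endo σ a γ' = t := congrArg Subtype.val hγ'
      rw [key] at h3
      apply (ev_bijective σ hG dG ξ).1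
      rw [hγ]
      exact (dif_eq ha.1 h3).symm

omit [GrpObj G] in
theorem card_eq [ConnectedSpace T] (hG : FEt.prop G.hom) (dG : Dm σ G)
    {Ω : Type u} [Field Ω] [IsAlgClosed Ω] (ξ : Spec (CommRingCat.of Ω) ⟶ T) :
    Nat.card (Over.mk σ ⟶ G) = Nat.card (Over.mk (ξ ≫ σ) ⟶ G) :=
  Nat.card_congr (Equiv.ofBijective _ (ev_bijective σ hG dG ξ))

end K153.TorsPrin
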