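import Groth.Prelude.Def_ActBC
import Groth.Agent.NonAbH1.K551.H1Cl

/-!
# Torsors and a class of objects on which base change is an equivalence

`f : S' ⟶ S`, `P` a class of `S`-schemes closed under products, such that `Hom_S(X, Y) → Hom_{S'}(X', Y')` is
bijective for `X, Y` in `P`, `G` a group scheme in `P`.

* `nonempty_equivIso`: torsors in `P` with isomorphic base changes are isomorphic.
* `exists_torsor`: an action of `G'` on `X'` (`X` in `P`) which is a pseudo-torsor comes from an action of `G` on `X`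
  which is a pseudo-torsor.
* `bcMap_bijective`: if all torsors are in `P`, and all torsors over `S'` come from `P` as schemes, then
  `H¹(S, G) → H¹(S', G')` is bijective.
-/

set_option autoImplicit false
universe u

open CategoryTheory CategoryTheory.Limits MonoidalCategory CartesianMonoidalCategory MonObj GrpObj
open AlgebraicGeometry

namespace K153.Transport

variable {S S' : Scheme.{u}} (f : S' ⟶ S) {G : Over S} [GrpObj G]

/-- `P` is closed under products, and base change is fully faithful on `P`. -/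
structure FF (P : Over S → Prop) : Prop where
  one : P (𝟙_ (Over S))
  prod : ∀ {X Y : Over S}, P X → P Y → P (X ⊗ Y)
  ff : ∀ {X Y : Over S}, P X → P Y →
    Function.Bijective (fun g : X ⟶ Y => (Over.pullback f).map g)

variable {f} {P : Over S → Prop} (hP : FF f P)
include hP

omit [GrpObj G] in
theorem FF.inj {X Y : Over S} (hX : P X) (hY : P Y) {g h : X ⟶ Y}
    (e : (Over.pullback f).map g = (Over.pullback f).map h) : g = h :=
  (hP.ff hX hY).1 e

omit [GrpObj G] in
theorem FF.exists_map {X Y : Over S} (hX : P X) (hY : P Y)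
    (g : (Over.pullback f).obj X ⟶ (Over.pullback f).obj Y) : ∃ h : X ⟶ Y, (Over.pullback f).map h = g :=
  (hP.ff hX hY).2 g

omit [GrpObj G] in
theorem FF.isIso {X Y : Over S} (hX : P X) (hY : P Y) (g : X ⟶ Y) [IsIso ((Over.pullback f).map g)] :
    IsIso g := by
  obtain ⟨h, hh⟩ := hP.exists_map hY hX (inv ((Over.pullback f).map g))
  refine ⟨h, hP.inj hX hX ?_, hP.inj hY hY ?_⟩
  · rw [Functor.map_comp, hh, IsIso.hom_inv_id, CategoryTheory.Functor.map_id]
  · rw [Functor.map_comp, hh, IsIso.inv_hom_id, CategoryTheory.Functor.map_id]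

theorem nonempty_equivIso {X Y : Over S} (hG : P G) (hX : P X) (hY : P Y) (a : AlgGrp.Action G X)
    (b : AlgGrp.Action G Y) (e : NonAbH1.EquivIso (a.bc f) (b.bc f)) :
    Nonempty (NonAbH1.EquivIso a b) := by
  obtain ⟨φ, hφ⟩ := hP.exists_map hX hY e.iso.hom
  have : IsIso ((Over.pullback f).map φ) := by rw [hφ]; infer_instance
  have hiso : IsIso φ := hP.isIso hX hY φ
  refine ⟨⟨asIso φ, ?_⟩⟩
  rw [asIso_hom]
  apply hP.inj (hP.prod hG hX) hY
  rw [← cancel_epi (Functor.LaxMonoidal.μ (Over.pullback f) G X), Functor.map_comp, Functor.map_comp,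
    ← Functor.LaxMonoidal.μ_natural_right_assoc, hφ]
  have h := e.comm
  rw [AlgGrp.Action.bc_act, AlgGrp.Action.bc_act, Category.assoc] at h
  exact h

/-- Descent of an action. -/
theorem exists_action {X : Over S} (hG : P G) (hX : P X) (b : AlgGrp.Action (Red.bc f G) (Red.bc f X)) :
    ∃ a : AlgGrp.Action G X, a.bc f = b := by
  obtain ⟨act, hact⟩ := hP.exists_map (hP.prod hG hX) hX
    (inv (Functor.LaxMonoidal.μ (Over.pullback f) G X) ≫ b.act)
  have hact' : Functor.LaxMonoidal.μ (Over.pullback f) G X ≫ (Over.pullback f).map act = b.act := by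
    rw [hact, IsIso.hom_inv_id_assoc]
  refine ⟨⟨act, ?_, ?_⟩, AlgGrp.Action.ext' hact'⟩
  · apply hP.inj (hP.prod hP.one hX) hX
    have h := b.one_act
    rw [Functor.obj.η_def, comp_whiskerRight, Category.assoc, ← hact',
      Functor.LaxMonoidal.μ_natural_left_assoc, ← Functor.map_comp] at h
    have h2 := Functor.LaxMonoidal.left_unitality (Over.pullback f) X
    rw [h2] at h
    rw [cancel_epi (Functor.LaxMonoidal.ε (Over.pullback f) ▷ (Over.pullback f).obj X)] at h
    exact (cancel_epi _).1 h
  · apply hP.inj (hP.prod (hP.prod hG hG) hX) hX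
    have h := b.mul_act
    rw [Functor.obj.μ_def, comp_whiskerRight, Category.assoc, ← hact',
      Functor.LaxMonoidal.μ_natural_left_assoc, ← Functor.map_comp,
      MonoidalCategory.whiskerLeft_comp, Category.assoc,
      Functor.LaxMonoidal.μ_natural_right_assoc, ← Functor.map_comp,
      ← Functor.LaxMonoidal.associativity_assoc, ← Functor.map_comp] at h
    rw [cancel_epi (Functor.LaxMonoidal.μ (Over.pullback f) G G ▷ (Over.pullback f).obj X)] at h
    exact (cancel_epi _).1 h

theorem isPseudoTorsorSch_of_bc {X : Over S} (hG : P G) (hX : P X) (a : AlgGrp.Action G X)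
    (h : NonAbH1.IsPseudoTorsorSch (a.bc f)) : NonAbH1.IsPseudoTorsorSch a := by
  have key : lift (a.bc f).act (snd _ _) ≫ Functor.LaxMonoidal.μ (Over.pullback f) X X =
      Functor.LaxMonoidal.μ (Over.pullback f) G X ≫ (Over.pullback f).map (lift a.act (snd G X)) := by
    rw [← Functor.Monoidal.lift_μ, comp_lift_assoc, Functor.Monoidal.μ_snd, AlgGrp.Action.bc_act]
  have : IsIso (lift (a.bc f).act (snd (Red.bc f G) (Red.bc f X))) := h
  have h1 : IsIso (Functor.LaxMonoidal.μ (Over.pullback f) G X ≫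
      (Over.pullback f).map (lift a.act (snd G X))) := by
    rw [← key]; infer_instance
  have h2 : IsIso ((Over.pullback f).map (lift a.act (snd G X))) :=
    IsIso.of_isIso_comp_left (Functor.LaxMonoidal.μ (Over.pullback f) G X) _
  exact hP.isIso (hP.prod hG hX) (hP.prod hX hX) _

omit hP in
/-- Transport of an action along an isomorphism of schemes. -/
noncomputable def transport {X Y : Over S} (e : X ≅ Y) (a : AlgGrp.Action G Y) : AlgGrp.Action G X where
  act := (G ◁ e.hom) ≫ a.act ≫ e.inv
  one_act := by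
    rw [← whisker_exchange_assoc, ← Category.assoc (η[G] ▷ Y), a.one_act]
    simp
  mul_act := by
    rw [← whisker_exchange_assoc, ← Category.assoc (μ[G] ▷ Y), a.mul_act]
    simp only [Category.assoc, MonoidalCategory.whiskerLeft_comp]
    rw [MonoidalCategory.associator_naturality_right_assoc,
      ← MonoidalCategory.whiskerLeft_comp_assoc G e.inv e.hom, Iso.inv_hom_id,
      MonoidalCategory.whiskerLeft_id, Category.id_comp]

omit hP in
/-- The transported action is isomorphic to the given one. -/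
noncomputable def transportIso {X Y : Over S} (e : X ≅ Y) (a : AlgGrp.Action G Y) :
    NonAbH1.EquivIso (transport e a) a where
  iso := e
  comm := by
    change ((G ◁ e.hom) ≫ a.act ≫ e.inv) ≫ e.hom = _
    simp

omit hP in
theorem isPseudoTorsorSch_of_equivIso {X Y : Over S} {a : AlgGrp.Action G X} {b : AlgGrp.Action G Y}
    (e : NonAbH1.EquivIso a b) (hb : NonAbH1.IsPseudoTorsorSch b) : NonAbH1.IsPseudoTorsorSch a := by
  have : IsIso (lift b.act (snd G Y)) := hb
  have h : lift a.act (snd G X) ≫ (e.iso.hom ⊗ₘ e.iso.hom) = (G ◁ e.iso.hom) ≫ lift b.act (snd G Y) := by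
    apply CartesianMonoidalCategory.hom_ext
    · simp [e.comm]
    · simp
  have h2 : IsIso (lift a.act (snd G X) ≫ (e.iso.hom ⊗ₘ e.iso.hom)) := by rw [h]; infer_instance
  exact IsIso.of_isIso_comp_right (lift a.act (snd G X)) (e.iso.hom ⊗ₘ e.iso.hom)

theorem bcMap_bijective (K : Precoverage Scheme.{u}) [K.IsStableUnderBaseChange] (hG : P G)
    (htor : ∀ X : NonAbH1.TorsorSch G K, P X.X)
    (hsurj : ∀ Z : NonAbH1.TorsorSch (Red.bc f G) K, ∃ X : Over S, P X ∧
      NonAbH1.IsLocallyTrivialFor K X ∧ Nonempty (Red.bc f X ≅ Z.X)) :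
    Function.Bijective (NonAbH1.H1Sch.bcMap f G K) := by
  constructor
  · intro x y h
    obtain ⟨X, rfl⟩ := K551.H1Cl.exists_cl x
    obtain ⟨Y, rfl⟩ := K551.H1Cl.exists_cl y
    rw [← NonAbH1.TorsorSch.cl_bc, ← NonAbH1.TorsorSch.cl_bc, K551.H1Cl.cl_eq_iff] at h
    obtain ⟨e⟩ := h
    rw [K551.H1Cl.cl_eq_iff]
    exact nonempty_equivIso hP hG (htor X) (htor Y) X.act Y.act e
  · intro z
    obtain ⟨Z, rfl⟩ := K551.H1Cl.exists_cl z
    obtain ⟨X, hX, hloc, ⟨ε⟩⟩ := hsurj Z
    obtain ⟨a, ha⟩ := exists_action hP hG hX (transport ε Z.act)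
    have hps : NonAbH1.IsPseudoTorsorSch a := by
      apply isPseudoTorsorSch_of_bc hP hG hX
      rw [ha]
      exact isPseudoTorsorSch_of_equivIso (transportIso ε Z.act) Z.isTorsor.1
    refine ⟨NonAbH1.TorsorSch.cl ⟨X, a, hps, hloc⟩, ?_⟩
    rw [← NonAbH1.TorsorSch.cl_bc, K551.H1Cl.cl_eq_iff]
    change Nonempty (NonAbH1.EquivIso (a.bc f) Z.act)
    rw [ha]
    exact ⟨transportIso ε Z.act⟩

end K153.Transport
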