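import Groth.Agent.NonAbH1.K153.HensLaur
import Groth.Agent.NonAbH1.K153.TorsPrin
import Groth.Agent.NonAbH1.K153.CopSec
import Groth.Agent.NonAbH1.K153.Transport
import Groth.Agent.Pi1.H538.PPrime

/-!
# Torsors over `R((t))` under groups split by `t ↦ t ^ d`

* `PP R X`: `X` is finite étale over `Spec R((t))` and split by `t ↦ t ^ N` for some `N` invertible in `R`.
* `tors_PP`: torsors under a group of order invertible in `R` which is split by `t ↦ t ^ d` are in `PP`.
* `ff_PP`: base change to the residue field is fully faithful on `PP`; `exists_PP`: it is essentially surjective.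
-/

set_option autoImplicit false

universe u

open CategoryTheory CategoryTheory.Limits MonoidalCategory CartesianMonoidalCategory MonObj GrpObj
open AlgebraicGeometry IsLocalRing

namespace K153.LaurTors

open K153.Laur K153.LaurSch K153.DomSch K153.TorsPrin K153.HensLaur

section card

variable {T S : Scheme.{u}} (σ : T ⟶ S) (G : Over S)

/-- `S`-morphisms `T ⟶ G` when `G ×_S T` is a disjoint union of copies of `T`. -/
theorem card_eq_of_split [ConnectedSpace T] {J : Type u} (e : pullback G.hom σ ≅ ∐ fun _ : J => T)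
    (he : e.hom ≫ K153.CopSec.fold T J = pullback.snd G.hom σ) :
    Nat.card (Over.mk σ ⟶ G) = Nat.card J := by
  rw [← K153.CopSec.card_eq (J := J) T (𝟙 T)]
  have he' : e.inv ≫ pullback.snd G.hom σ = K153.CopSec.fold T J := by
    rw [← he, Iso.inv_hom_id_assoc]
  refine Nat.card_congr
    { toFun := fun γ => ⟨pullback.lift γ.left (𝟙 T) (by
          rw [Over.w γ]; exact (Category.id_comp σ).symm) ≫ e.hom, by
        rw [Category.assoc, he]; exact pullback.lift_snd _ _ _⟩
      invFun := fun y => Over.homMk ((y.1 ≫ e.inv) ≫ pullback.fst G.hom σ) (by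
        change ((y.1 ≫ e.inv) ≫ pullback.fst G.hom σ) ≫ G.hom = σ
        rw [Category.assoc, pullback.condition, Category.assoc, reassoc_of% he', ← Category.assoc,
          y.2, Category.id_comp])
      left_inv := fun γ => by
        ext1
        change ((_ ≫ e.hom) ≫ e.inv) ≫ pullback.fst G.hom σ = γ.left
        rw [Category.assoc, Category.assoc, Iso.hom_inv_id_assoc]
        exact pullback.lift_fst _ _ _
      right_inv := fun y => by
        apply Subtype.ext
        change pullback.lift ((y.1 ≫ e.inv) ≫ pullback.fst G.hom σ) (𝟙 T) _ ≫ e.hom = y.1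
        rw [← Iso.eq_comp_inv]
        apply pullback.hom_ext
        · exact pullback.lift_fst _ _ _
        · rw [pullback.lift_snd, Category.assoc, he', y.2] }

theorem dm_of_split {J : Type u} (e : pullback G.hom σ ≅ ∐ fun _ : J => T)
    (he : e.hom ≫ K153.CopSec.fold T J = pullback.snd G.hom σ) : Dm σ G := by
  refine Dm.of_family e fun i => ?_
  rw [← he, Iso.inv_hom_id_assoc, Sigma.ι_desc]

end card

/-- From the pullback to the scheme. -/
theorem dm_of_bc {U T S : Scheme.{u}} {τ : U ⟶ T} {σ : T ⟶ S} {X : Over S}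
    (h : Dm τ (Over.mk (pullback.snd X.hom σ))) : Dm (τ ≫ σ) X := by
  intro Ω _ _ τ' x hx
  obtain ⟨s, hs, hs'⟩ := h Ω τ' (pullback.lift x (τ' ≫ τ) (by rw [hx, Category.assoc]))
    (pullback.lift_snd _ _ _)
  change U ⟶ pullback X.hom σ at s
  change s ≫ pullback.snd X.hom σ = τ at hs
  refine ⟨s ≫ pullback.fst X.hom σ, ?_, ?_⟩
  · rw [Category.assoc, pullback.condition, reassoc_of% hs]
  · rw [← Category.assoc, hs']
    exact pullback.lift_fst _ _ _

section

variable (R : Type u) [CommRing R]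

/-- Finite étale over `Spec R((t))` and split by `t ↦ t ^ N` for some `N` invertible in `R`. -/
def PP (X : Over (SL R)) : Prop :=
  FEt.prop X.hom ∧ ∃ (N : ℕ) (hN : 0 < N), IsUnit (N : R) ∧ Dm (spw R hN) X

variable {R}

theorem dm_of_dvd {N M : ℕ} (hN : 0 < N) (hM : 0 < M) (h : N ∣ M) {X : Over (SL R)}
    (d : Dm (spw R hN) X) : Dm (spw R hM) X := by
  obtain ⟨k, rfl⟩ : ∃ k, M = k * N := by
    obtain ⟨k, rfl⟩ := h
    exact ⟨k, mul_comm _ _⟩
  have hk : 0 < k := Nat.pos_of_mul_pos_right hM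
  have h1 := d.comp (spw R hk)
  rwa [spw_comp R hN hk] at h1

theorem PP.common {X Y : Over (SL R)} (hX : PP R X) (hY : PP R Y) :
    ∃ (N : ℕ) (hN : 0 < N), IsUnit (N : R) ∧ Dm (spw R hN) X ∧ Dm (spw R hN) Y := by
  obtain ⟨-, N, hN, hu, hd⟩ := hX
  obtain ⟨-, M, hM, hv, hd'⟩ := hY
  refine ⟨N * M, Nat.mul_pos hN hM, ?_, dm_of_dvd hN _ ⟨M, rfl⟩ hd,
    dm_of_dvd hM _ ⟨N, mul_comm _ _⟩ hd'⟩
  rw [Nat.cast_mul]
  exact hu.mul hv

end

theorem exists_mulEquiv (Γ : Type u) [Group Γ] [Finite Γ] :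
    ∃ (C : Type) (_ : Group C) (_ : Finite C), Nonempty (C ≃* Γ) := by
  let e : Fin (Nat.card Γ) ≃ Γ := (Finite.equivFin Γ).symm
  exact ⟨Fin (Nat.card Γ), e.group, inferInstance, ⟨@Equiv.mulEquiv _ _ e _⟩⟩

/-- Torsors under a group split by `t ↦ t ^ d` are split by `t ↦ t ^ N`. -/
theorem tors_PP (hC : Cmp.{u}) (R : Type u) [CommRing R] [HenselianLocalRing R]
    [IsSepClosed (ResidueField R)] {d : ℕ} (hd : 0 < d) (hdu : IsUnit (d : R))
    (G : Over (SL R)) [GrpObj G] (hG : FEt.prop G.hom) (dG : Dm (spw R hd) G)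
    (cG : IsUnit ((Nat.card (Over.mk (spw R hd) ⟶ G) : ℕ) : R))
    (X : NonAbH1.TorsorSch G Scheme.fppfPrecoverage) : PP R X.X := by
  have h1 : IsFinite G.hom := hG.1
  have h2 : Etale G.hom := hG.2
  have hX : FEt.prop X.X.hom :=
    ⟨K551.Tors.isFinite_of_torsor X.isTorsor, K551.Tors.etale_of_torsor X.isTorsor⟩
  have hne : Nat.card (Over.mk (spw R hd) ⟶ G) ≠ 0 := by
    intro h0
    rw [h0, Nat.cast_zero] at cG
    exact not_isUnit_zero cG
  have hfin : Finite (Over.mk (spw R hd) ⟶ G) := Nat.finite_of_card_ne_zero hne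
  obtain ⟨C, _, _, ⟨e⟩⟩ := exists_mulEquiv (Over.mk (spw R hd) ⟶ G)
  have hP := isPrincipal (spw R hd) X.act hX hG dG X.isTorsor
  have hP' := Groth.Agent.Pi1.H538.PPrime.isPrincipal_comp e hP
  have hcard : IsUnit ((Nat.card C : ℕ) : R) := by
    rw [Nat.card_congr e.toEquiv]
    exact cG
  obtain ⟨N, hN, hu, hD⟩ := exists_dm hC R C hcard _ _ hP'
  have h3 : Dm (spw R hN) (Over.mk (pullback.snd X.X.hom (spw R hd))) := hD
  have h4 := dm_of_bc h3
  rw [spw_comp R hd hN] at h4
  refine ⟨hX, _, _, ?_, h4⟩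
  rw [Nat.cast_mul]
  exact hu.mul hdu

end K153.LaurTors
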