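import Groth.Agent.NonAbH1.K153.HensLoc
import Groth.Agent.NonAbH1.K153.RelLine
import Groth.Agent.Pi1.H414.S3690_of
import Groth.Agent.S3689
import Groth.Agent.S3711

/-!
# Prime-to-`p` principal covers of `Spec R{t}[1/t]` are split by Kummer covers

`R` strictly henselian local, `B = R{t}` a henselization of `(R[t], t)`, `U = Spec B[1/t]` (as an open subscheme
of `Spec B`), `C` a finite group of order invertible in `R`, `P → U` a principal `C`-cover. Then `P` is split by
the Kummer cover `t = T ^ N` for some `N` invertible in `R` (`exists_ptSplit`).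
-/

set_option autoImplicit false

universe u

open CategoryTheory CategoryTheory.Limits AlgebraicGeometry Polynomial IsLocalRing

namespace K153.TameSplit

open K153.HensLoc K153.RelLine Groth.Agent.Pi1.H415 Groth.Agent.Pi1.H415.Glue
  Groth.Agent.Pi1.H415.KumBC Groth.Agent.Pi1.H415.Local Groth.Agent.Pi1.H415.SplitBC

variable {R : Type u} [CommRing R] (B : Type u) [CommRing B] [IsLocalRing B] [Algebra R[X] B]

/-- The equation of the divisor, as a family. -/
noncomputable abbrev fam (R : Type u) [CommRing R] : Fin 1 → Γ(Spec (CommRingCat.of R[X]), ⊤) :=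
  fun _ => crd R

theorem fn_crd : fn (pt (R := R) B) B (crd R) = algebraMap R[X] B X :=
  algebraMap_toStalk B X

variable (hB : Hens2.IsPairHenselization R[X] (Ideal.span {(X : R[X])}) B)

include hB in
theorem not_mem (i : Fin 1) :
    pt (R := R) B ∉ (Spec (CommRingCat.of R[X])).basicOpen (fam R i) := by
  rw [← fn_mem_maximalIdeal_iff (pt (R := R) B) B (fam R i)]
  change fn (pt (R := R) B) B (crd R) ∈ maximalIdeal B
  rw [fn_crd]
  exact X_mem_maximalIdeal B hB

/-- The index of the equation. -/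
def idx : SGA1t.vanishingAt (fam R) (pt (R := R) B) := ⟨0, not_mem B hB 0⟩

theorem eq_idx (i : SGA1t.vanishingAt (fam R) (pt (R := R) B)) : i = idx B hB :=
  Subtype.ext (Subsingleton.elim _ _)

/-- The complement of the divisor `t = 0` in `Spec R{t}`. -/
noncomputable abbrev UU : (Spec (CommRingCat.of B)).Opens := cmpl (fam R) (pt (R := R) B) B

theorem mem_UU_iff (y : ↥(Spec (CommRingCat.of B))) :
    y ∈ UU (R := R) B ↔ y ∈ PrimeSpectrum.basicOpen (algebraMap R[X] B X) := by
  rw [UU, cmpl, mem_compl_iff]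
  constructor
  · intro h
    have h1 := h 0
    rw [basicOpen_specOf] at h1
    rwa [← fn_crd]
  · intro h i
    rw [basicOpen_specOf]
    change y ∈ PrimeSpectrum.basicOpen (fn (pt (R := R) B) B (crd R))
    rwa [fn_crd]

theorem isUnit_natCast_residueField {Z : Scheme.{u}} (g : Z ⟶ Spec (CommRingCat.of R)) (y : Z) (n : ℕ)
    (hn : IsUnit (n : R)) : IsUnit ((n : ℕ) : Z.residueField y) := by
  let m : R →+* (Spec (CommRingCat.of R)).residueField (g y) :=
    ((Scheme.ΓSpecIso (CommRingCat.of R)).inv ≫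
      (Spec (CommRingCat.of R)).evaluation ⊤ (g y) trivial).hom
  have h1 := (hn.map m).map (g.residueFieldMap y).hom
  rwa [map_natCast, map_natCast] at h1

theorem isRelTameOver (C : Type) [Group C] [Finite C] (hC : IsUnit ((Nat.card C : ℕ) : R))
    (P : FEt.Cat (UU (R := R) B : Scheme.{u})) (ρ : C →* Aut P) (hP : SGA1t.IsPrincipal C P ρ)
    (T : Set (Spec (CommRingCat.of R))) :
    SGA1t.IsRelTameOver (Hens2.specOf (Spec (CommRingCat.of R[X])) (pt (R := R) B) B ≫ pr R)
      (fun i => (Hens2.specOf (Spec (CommRingCat.of R[X])) (pt (R := R) B) B).appTop (fam R i)) P T := by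
  intro Ω _ _ σ _ y _ hdvr w h hne
  refine Groth.Agent.S3711.isTamelyRamified_of_openImmersion (UU (R := R) B).ι C P ρ hP
    (pullback.fst (Hens2.specOf (Spec (CommRingCat.of R[X])) (pt (R := R) B) B ≫ pr R) σ)
    y hdvr w h hne ?_
  exact isUnit_natCast_residueField
    (pullback.fst (Hens2.specOf (Spec (CommRingCat.of R[X])) (pt (R := R) B) B ≫ pr R) σ ≫
      Hens2.specOf (Spec (CommRingCat.of R[X])) (pt (R := R) B) B ≫ pr R) y _ hC

variable [HenselianLocalRing R] [IsSepClosed (ResidueField R)]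

include hB in
theorem exists_ptSplit (C : Type) [Group C] [Finite C] (hC : IsUnit ((Nat.card C : ℕ) : R))
    (P : FEt.Cat (UU (R := R) B : Scheme.{u})) (ρ : C →* Aut P) (hP : SGA1t.IsPrincipal C P ρ) :
    ∃ N : ℕ, 0 < N ∧ IsUnit (N : R) ∧
      PtSplit P.hom (str B (eqs (fam R) (pt (R := R) B) B) (fun _ => N) ∣_ UU (R := R) B) := by
  have := isStrictHenselization B hB
  obtain ⟨n, hn, hnu, hs⟩ := Groth.Agent.Pi1.H414.S3690_of.exists_split_max
    (@Groth.Agent.S3689.result) (pr R) (fam R) (isRelSNC R) (pt (R := R) B) ⟨idx B hB⟩ B P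
    (isRelTameOver B C hC P ρ hP _)
  obtain ⟨N, hN⟩ : ∃ N : ℕ, n = fun _ => N := ⟨n (idx B hB), by
    funext i
    rw [eq_idx B hB i]⟩
  subst hN
  have h2 : IsUnit ((N : ℕ) : B) := isUnit_natCast (pt (R := R) B) B _ (hnu (idx B hB))
  have h3 : IsUnit ((N : ℕ) : R) := by
    have := isLocalHom_base B hB
    have h4 : base (R := R) B ((N : ℕ) : R) = ((N : ℕ) : B) := map_natCast _ _
    rw [← h4] at h2
    exact IsUnit.of_map (base (R := R) B) _ h2
  exact ⟨N, hn (idx B hB), h3, hs⟩

end K153.TameSplit
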